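import Cfsg.Agent.Lib.FFourLocal.SixData

/-!
# The model of `Sp₆(2)`: linearity, the frame of three planes and the elements used below
-/

set_option autoImplicit false
set_option maxRecDepth 100000
set_option linter.unusedSectionVars false

namespace Cfsg.Agent.FFourLocal.Lift

open Subgroup Cfsg.Agent.SpThreeCent.SixEnd

/-- The permutation of an element of the model. -/
abbrev app (g : S) : Equiv.Perm (Fin 64) := g

theorem node_lin : ∀ (i : Fin 7) (x y : Fin 64),
    bil (tvFun (nodeVec i) x) (tvFun (nodeVec i) y) = bil x y ∧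
    tvFun (nodeVec i) (vadd x y) = vadd (tvFun (nodeVec i) x) (tvFun (nodeVec i) y) ∧
    tvFun (nodeVec i) 0 = 0 := by decide +kernel

/-- The elements of the model are linear and preserve the form. -/
theorem lin (g : S) (x y : Fin 64) : bil (app g x) (app g y) = bil x y ∧
    app g (vadd x y) = vadd (app g x) (app g y) ∧ app g 0 = 0 := by
  revert x y
  have hg : g ∈ closure (Set.range node) := closure_range_node ▸ mem_top g
  induction hg using closure_induction with
  | mem s hs => obtain ⟨i, rfl⟩ := hs; exact node_lin i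
  | one => exact fun x y => ⟨rfl, rfl, rfl⟩
  | mul g h _ _ ihg ihh =>
    intro x y
    change bil (app g (app h x)) (app g (app h y)) = _ ∧ app g (app h (vadd x y)) = vadd (app g (app h x))
      (app g (app h y)) ∧ app g (app h 0) = 0
    obtain ⟨h1, h2, h3⟩ := ihh x y
    obtain ⟨g1, g2, g3⟩ := ihg (app h x) (app h y)
    exact ⟨g1.trans h1, by rw [h2, g2], by rw [h3, g3]⟩
  | inv g _ ih =>
    intro x y
    change bil ((app g).symm x) ((app g).symm y) = _ ∧ (app g).symm (vadd x y) =
      vadd ((app g).symm x) ((app g).symm y) ∧ (app g).symm 0 = 0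
    obtain ⟨h1, h2, h3⟩ := ih ((app g).symm x) ((app g).symm y)
    rw [Equiv.apply_symm_apply, Equiv.apply_symm_apply] at h1 h2
    exact ⟨h1.symm, by rw [Equiv.symm_apply_eq, h2], by rw [Equiv.symm_apply_eq, h3]⟩

/-- The combinations of a list of points. -/
def combo : List (Fin 64) → ℕ → Fin 64
  | [], _ => 0
  | v :: l, m => if m % 2 = 1 then vadd v (combo l (m / 2)) else combo l (m / 2)

theorem app_combo (g h : S) : ∀ (l : List (Fin 64)) (m : ℕ), (∀ v ∈ l, app g v = app h v) →
    app g (combo l m) = app h (combo l m)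
  | [], _, _ => by rw [combo, (lin g 0 0).2.2, (lin h 0 0).2.2]
  | v :: l, m, hl => by
    have ih := app_combo g h l (m / 2) fun w hw => hl w (List.mem_cons_of_mem _ hw)
    rw [combo]
    split
    · rw [(lin g _ _).2.1, (lin h _ _).2.1, hl v List.mem_cons_self, ih]
    · exact ih

/-- Two elements agreeing on a spanning list are equal. -/
theorem ext_span (g h : S) (l : List (Fin 64)) (hsp : ∀ y, ∃ m : Fin 64, combo l m.val = y)
    (hl : ∀ v ∈ l, app g v = app h v) : g = h := by
  refine Subtype.ext (Equiv.ext fun y => ?_)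
  obtain ⟨m, rfl⟩ := hsp y
  exact app_combo g h l m.val hl

/-- The six basis vectors. -/
def bas : List (Fin 64) := [1, 8, 2, 16, 4, 32]

theorem bas_span : ∀ y, ∃ m : Fin 64, combo bas m.val = y := by decide +kernel

theorem ext_bas (g h : S) (hl : ∀ v ∈ bas, app g v = app h v) : g = h := ext_span g h bas bas_span hl

theorem tv_eq : ∀ x y : Fin 64, (∀ v, tvFun x v = tvFun y v) → x = y ∨ tvFun x = id := by decide +kernel

theorem tvS_apply (x v : Fin 64) : app (tvS x) v = tvFun x v := rfl

theorem tvS_conj (g : S) (x : Fin 64) : g * tvS x * g⁻¹ = tvS (app g x) :=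
  Subtype.ext (tv_conj g.2 x)

/-- A product of transvections. -/
def pr (l : List (Fin 64)) : S := (l.map tvS).prod

/-- The index set of the frame. -/
abbrev U : Type := Fin 3 × Fin 3 × Fin 3

/-- The elements of order three of the three planes, and their products. -/
def P (u : U) : S := px 0 ^ u.1.val * px 1 ^ u.2.1.val * px 2 ^ u.2.2.val

theorem P_tab_add : ∀ u v : U, ∀ x ∈ bas, app (P u) (app (P v) x) = app (P (u + v)) x := by decide +kernel

theorem P_add (u v : U) : P u * P v = P (u + v) := ext_bas _ _ fun x hx => P_tab_add u v x hx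

theorem P_zero : P 0 = 1 := by decide +kernel

theorem P_comm (u v : U) : Commute (P u) (P v) := by
  show P u * P v = P v * P u
  rw [P_add, P_add, add_comm]

theorem P_neg (u : U) : (P u)⁻¹ = P (-u) := inv_eq_of_mul_eq_one_right (by rw [P_add, add_neg_cancel, P_zero])

theorem P_inj : ∀ u v : U, (∀ x ∈ bas, app (P u) x = app (P v) x) → u = v := by decide +kernel

theorem P_injective : Function.Injective P := fun u v h => P_inj u v fun x _ => by rw [h]

/-- The central one. -/
abbrev z0 : S := P (1, 1, 1)

/-- The frame. -/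
def E3 : Subgroup S where
  carrier := Set.range P
  one_mem' := ⟨0, P_zero⟩
  mul_mem' := by rintro _ _ ⟨u, rfl⟩ ⟨v, rfl⟩; exact ⟨u + v, (P_add u v).symm⟩
  inv_mem' := by rintro _ ⟨u, rfl⟩; exact ⟨-u, (P_neg u).symm⟩

theorem card_E3 : Nat.card ↥E3 = 27 := by
  have : Nat.card ↥(Set.range P) = 27 := by
    rw [Nat.card_range_of_injective P_injective, Nat.card_eq_fintype_card]
    rfl
  exact this

/-- The cyclic permutation of the planes. -/
def sig : S := pr [3, 24, 27, 6, 48, 54]

/-- An element commuting with `z₀` and mixing the planes. -/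
def qS : S := pr [7, 56]

/-- The cyclic permutation of the indices. -/
def rot (u : U) : U := (u.2.2, u.1, u.2.1)

theorem sig_tab : (∀ u : U, ∀ x ∈ bas, app sig (app (P u) x) = app (P (rot u)) (app sig x)) ∧
    (∀ x ∈ bas, app sig (app sig (app sig x)) = x) := by decide +kernel

theorem sig_conj (u : U) : sig * P u * sig⁻¹ = P (rot u) :=
  mul_inv_eq_iff_eq_mul.2 (ext_bas _ _ fun x hx => sig_tab.1 u x hx)

theorem sig_cube : sig ^ 3 = 1 := by
  rw [pow_succ, pow_two]
  exact ext_bas _ _ fun x hx => sig_tab.2 x hx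

theorem sig_diag : ∀ u : U, rot u = u ∨ rot (rot u) = u → u.1 = u.2.1 ∧ u.2.1 = u.2.2 := by decide

theorem diag_z0 : ∀ i : Fin 3, P (i, i, i) = z0 ^ i.val := by decide +kernel

theorem q_tab : ∀ x ∈ bas, app qS (app z0 x) = app z0 (app qS x) := by decide +kernel

theorem q_comm : Commute qS z0 := ext_bas _ _ fun x hx => q_tab x hx

theorem sig_comm : Commute sig z0 := mul_inv_eq_iff_eq_mul.1 (sig_conj (1, 1, 1))

theorem px_eq : px 0 = P (1, 0, 0) ∧ px 1 = P (0, 1, 0) ∧ px 2 = P (0, 0, 1) ∧
    px 0 * px 1 * px 2 = z0 ∧ px 1 * (px 2)⁻¹ = P (0, 1, 2) := by decide +kernel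

end Cfsg.Agent.FFourLocal.Lift
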