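import Cfsg.Agent.Lib.FFourLocal.Lift.Six

/-!
# Coordinates on both sides with a common long element

If `y` is the short one on the side of `a`, it is replaced by `y⁻¹ * z` with a new interchanging element; on the
side of `b` the long element is then the partner, since a long element has a centralizer with an element of
order five.
-/

set_option autoImplicit false
set_option maxRecDepth 100000
set_option linter.unusedSectionVars false

namespace Cfsg.Agent.FFourLocal.Lift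

open Subgroup Cfsg.Agent.SpThreeCent.SixEnd

universe u

variable {G : Type u} [Group G] [Finite G] {Z Q Q1 Q2 L1 L2 E : Subgroup G} {t1 t2 z y a b : G}

omit [Finite G] in
theorem tau_short : tvS 4 * P (0, 1, 2) * (tvS 4)⁻¹ = P (0, 1, 1) ∧ tvS 4 * P (0, 1, 1) * (tvS 4)⁻¹ = P (0, 1, 2) ∧
    tvS 4 * P (1, 0, 0) * (tvS 4)⁻¹ = P (1, 0, 0) := by decide +kernel

omit [Finite G] in
/-- The partner `y⁻¹ * z` in place of `y`. -/
theorem flip_local (D : Local Z Q Q1 Q2 L1 L2 E t1 t2 z y a b) {k : G} (hk : k * a * k⁻¹ = a)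
    (hkb : k * b * k⁻¹ = y) (hky : k * y * k⁻¹ = b) (hky' : k * (y⁻¹ * z) * k⁻¹ = y⁻¹ * z) :
    Local Z Q Q1 Q2 L1 L2 E t1 t2 z (y⁻¹ * z) a b := by
  have hinv : (y⁻¹ * z)⁻¹ * z = y := by
    rw [show (y⁻¹ * z)⁻¹ * z = z⁻¹ * (y * z) by group, D.yz.eq, inv_mul_cancel_left]
  have S' := D.symm
  obtain ⟨g, g1, g2, g3, g4⟩ := D.swap
  have i1 : g⁻¹ * a * g = y := by rw [← g3]; group
  have i2 : g⁻¹ * b * g = y⁻¹ * z := by rw [← g4]; group
  have i3 : g⁻¹ * y * g = a := by rw [← g1]; group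
  have i4 : g⁻¹ * (y⁻¹ * z) * g = b := by rw [← g2]; group
  refine ⟨D.base, D.small, D.z_mem, D.z_ne, D.a_mem, D.a_not, D.b_mem, D.b_not, S'.y_cent, S'.y_not, S'.y_cube,
    S'.y_b, S'.y_a, S'.y_t2, S'.y_t1, D.t1_a, D.t2_b, ?_, D.E_card, D.E_comm, D.E_exp, ?_, D.sig, D.cls,
    S'.y_diag2, S'.y_diag1⟩
  · rw [S'.E_eq, sup_assoc (zpowers z), sup_comm (zpowers b), ← sup_assoc]
  · rw [hinv]
    refine ⟨k * (g * k * g⁻¹), ?_, ?_, ?_, ?_⟩
    · calc k * (g * k * g⁻¹) * a * (k * (g * k * g⁻¹))⁻¹ = k * (g * (k * (g⁻¹ * a * g) * k⁻¹) * g⁻¹) * k⁻¹ := by group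
        _ = _ := by rw [i1, hky, g2, hky']
    · calc k * (g * k * g⁻¹) * b * (k * (g * k * g⁻¹))⁻¹ = k * (g * (k * (g⁻¹ * b * g) * k⁻¹) * g⁻¹) * k⁻¹ := by group
        _ = _ := by rw [i2, hky', g4, hkb]
    · calc k * (g * k * g⁻¹) * (y⁻¹ * z) * (k * (g * k * g⁻¹))⁻¹ =
          k * (g * (k * (g⁻¹ * (y⁻¹ * z) * g) * k⁻¹) * g⁻¹) * k⁻¹ := by group
        _ = _ := by rw [i4, hkb, g3, hk]
    · calc k * (g * k * g⁻¹) * y * (k * (g * k * g⁻¹))⁻¹ = k * (g * (k * (g⁻¹ * y * g) * k⁻¹) * g⁻¹) * k⁻¹ := by group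
        _ = _ := by rw [i3, hk, g1, hky]

/-- On the side of `b` the long element is the partner of the one on the side of `a`. -/
theorem long_partner (D : Local Z Q Q1 Q2 L1 L2 E t1 t2 z y a b) {φ ψ : S →* G} (F : Six a t1 z y b φ)
    (hφ : φ (P (0, 1, 1)) = y⁻¹ * z) (H : Six b t2 z y a ψ) (hψ : ψ (P (1, 0, 0)) = y) : False := by
  obtain ⟨g, g1, g2, g3, g4⟩ := D.swap
  obtain ⟨h5, hne, hcomm⟩ := five_facts
  have hxb : ψ five ∈ centralizer ({b} : Set G) := H.cent ▸ mem_sup_right ⟨five, rfl⟩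
  have hxy : Commute (ψ five) y := hψ ▸ (show Commute five (P (1, 0, 0)) from hcomm).map ψ
  set x := g * ψ five * g⁻¹ with hx
  have hconj : ∀ u v : G, g * u * g⁻¹ = v → Commute (ψ five) u → Commute x v := fun u v huv hc => by
    rw [← huv, hx]
    show g * ψ five * g⁻¹ * (g * u * g⁻¹) = g * u * g⁻¹ * (g * ψ five * g⁻¹)
    rw [show g * ψ five * g⁻¹ * (g * u * g⁻¹) = g * (ψ five * u) * g⁻¹ by group, hc.eq]
    group
  have hxa : Commute x a := hconj y a g3 hxy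
  have hxw : Commute x (y⁻¹ * z) := hconj b _ g2 (mem_centralizer_singleton_iff.1 hxb)
  have hsec : ∃ k : ℕ, ∃ d, x = a ^ k * φ d := by
    have hxm : x ∈ zpowers a ⊔ φ.range := F.cent ▸ mem_centralizer_singleton_iff.2 hxa.eq
    have hn : φ.range ≤ normalizer (zpowers a : Set G) := by
      rintro _ ⟨d, rfl⟩
      have hc : Commute (φ d) a := mem_centralizer_singleton_iff.1 (F.cent ▸ mem_sup_right ⟨d, rfl⟩)
      refine mem_normalizer_iff.2 fun w => ?_
      constructor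
      · intro hw
        obtain ⟨n, rfl⟩ := mem_zpowers_iff.1 hw
        rw [(hc.zpow_right n).eq, mul_inv_cancel_right]
        exact zpow_mem (mem_zpowers a) n
      · intro hw
        obtain ⟨n, hn⟩ := mem_zpowers_iff.1 hw
        refine mem_zpowers_iff.2 ⟨n, ?_⟩
        rw [show w = (φ d)⁻¹ * a ^ n * φ d by rw [hn]; group, (hc.inv_left.zpow_right n).eq,
          inv_mul_cancel_right]
    rw [← SetLike.mem_coe, coe_mul_of_right_le_normalizer_left _ _ hn] at hxm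
    obtain ⟨w, hw, _, ⟨d, rfl⟩, e⟩ := hxm
    obtain ⟨k, rfl⟩ := (mem_powers_iff_mem_zpowers.2 hw : w ∈ Submonoid.powers a)
    exact ⟨k, d, e.symm⟩
  obtain ⟨k, d, hd⟩ := hsec
  have hda : Commute (φ d) a := mem_centralizer_singleton_iff.1 (F.cent ▸ mem_sup_right ⟨d, rfl⟩)
  have hwa : Commute (y⁻¹ * z) a := by
    rw [← hφ]
    exact mem_centralizer_singleton_iff.1 (F.cent ▸ mem_sup_right ⟨_, rfl⟩)
  have hdw : d * P (0, 1, 1) = P (0, 1, 1) * d := F.inj (by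
    rw [map_mul, map_mul, hφ]
    have h : Commute ((a ^ k)⁻¹ * x) (y⁻¹ * z) := ((hwa.symm.pow_left k).inv_left).mul_left hxw
    rw [hd, inv_mul_cancel_left] at h
    exact h.eq)
  have hx5 : x ^ 5 = 1 := by
    rw [hx, conj_pow, ← map_pow, h5, map_one, mul_one, mul_inv_cancel]
  rw [hd, (hda.symm.pow_left k).mul_pow, ← map_pow] at hx5
  have hd5 : d ^ 5 = 1 := by
    have hm : φ (d ^ 5) = ((a ^ k) ^ 5)⁻¹ := eq_inv_of_mul_eq_one_right hx5
    -- an element of `⟨a⟩` fixed by `t1`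
    have ht : t1 * φ (d ^ 5) = φ (d ^ 5) * t1 :=
      mem_centralizer_iff.1 (F.range ▸ ⟨_, rfl⟩ : φ (d ^ 5) ∈ centralizer ({a, t1} : Set G)) t1
        (Set.mem_insert_of_mem _ rfl)
    set w := (a ^ k) ^ 5 with hw
    have hti : t1 * w * t1⁻¹ = w⁻¹ := by
      rw [hw, ← conj_pow, ← conj_pow, D.t1_a, inv_pow, inv_pow]
    rw [hm] at ht
    have e : w⁻¹ * w⁻¹ = 1 := by
      have : t1 * w⁻¹ * t1⁻¹ = w⁻¹ := by rw [ht, mul_inv_cancel_right]
      rw [show t1 * w⁻¹ * t1⁻¹ = (t1 * w * t1⁻¹)⁻¹ by group, hti, inv_inv] at this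
      conv_lhs => arg 1; rw [← this]
      rw [mul_inv_cancel]
    have h3 : w⁻¹ ^ 3 = 1 := by
      rw [inv_pow, hw, ← pow_mul, ← pow_mul, show k * (5 * 3) = 3 * (k * 5) by ring, pow_mul, D.a3, one_pow, inv_one]
    refine F.inj ?_
    rw [hm, eq_one_of_two_three e h3, map_one]
  obtain rfl := no_five d hd5 hdw
  rw [one_pow, map_one, mul_one] at hx5
  rw [map_one, mul_one] at hd
  have hk : a ^ k = 1 := by
    have h3 : (a ^ k) ^ 3 = 1 := by rw [← pow_mul, mul_comm, pow_mul, D.a3, one_pow]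
    calc a ^ k = ((a ^ k) ^ 3) ^ 2 * ((a ^ k) ^ 5)⁻¹ := by group
      _ = 1 := by rw [h3, hx5, one_pow, one_mul, inv_one]
  rw [hk, hx] at hd
  have : ψ five = 1 := by
    calc ψ five = g⁻¹ * (g * ψ five * g⁻¹) * g := by group
      _ = 1 := by rw [hd]; group
  exact hne (H.inj (this.trans (map_one ψ).symm))

/-- The two centralizers in coordinates. -/
theorem exists_six_of_big (D : Local Z Q Q1 Q2 L1 L2 E t1 t2 z y a b) (ha : Big a) (hb : Big b) :
    ∃ y', Local Z Q Q1 Q2 L1 L2 E t1 t2 z y' a b ∧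
      ∃ φ ψ : S →* G, Six a t1 z y' b φ ∧ Six b t2 z (y'⁻¹ * z) a ψ := by
  obtain ⟨y', hy', φ, F, h1, h011, h012⟩ := six_of_big D ha
  have D' : Local Z Q Q1 Q2 L1 L2 E t1 t2 z y' a b := by
    rcases hy' with rfl | rfl
    · exact D
    · have hinv : (y⁻¹ * z)⁻¹ * z = y := by
        rw [show (y⁻¹ * z)⁻¹ * z = z⁻¹ * (y * z) by group, D.yz.eq, inv_mul_cancel_left]
      obtain ⟨k1, k2, k3⟩ := tau_short
      have hk : Commute (φ (tvS 4)) a := mem_centralizer_singleton_iff.1 (F.cent ▸ mem_sup_right ⟨_, rfl⟩)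
      refine flip_local D (k := φ (tvS 4)) ?_ ?_ ?_ ?_
      · rw [hk.eq, mul_inv_cancel_right]
      · rw [← h012, ← map_inv, ← map_mul, ← map_mul, k1, h011, hinv]
      · conv_lhs => rw [← hinv, ← h011, ← map_inv, ← map_mul, ← map_mul, k2, h012]
      · conv_lhs => rw [← h1, ← map_inv, ← map_mul, ← map_mul, k3, h1]
  obtain ⟨y'', hy'', ψ, H, g1, -, -⟩ := six_of_big D'.symm hb
  refine ⟨y', D', φ, ψ, F, ?_⟩
  rcases hy'' with rfl | rfl
  · exact H
  · have hinv : (y'⁻¹ * z)⁻¹ * z = y' := by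
      rw [show (y'⁻¹ * z)⁻¹ * z = z⁻¹ * (y' * z) by group, D'.yz.eq, inv_mul_cancel_left]
    rw [hinv] at H g1
    exact (long_partner D' F h011 H g1).elim

end Cfsg.Agent.FFourLocal.Lift
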