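import Cfsg.Agent.Lib.FFourLocal.Lift.Model

/-!
# An automorphism of order two of `Sp₆(2)` fixing the centralizer of `z₀` is trivial
-/

set_option autoImplicit false
set_option maxRecDepth 100000
set_option linter.unusedSectionVars false

namespace Cfsg.Agent.FFourLocal.Lift

open Subgroup Cfsg.Agent.SpThreeCent.SixEnd

/-- The transvection of the third plane. -/
abbrev tau : S := tvS 4

theorem tau_facts : tau * tau = 1 ∧ tau ≠ 1 ∧ tvS 3 ≠ (1 : S) ∧ tau * P (0, 0, 1) * tau⁻¹ = P (0, 0, 2) ∧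
    tau * P (1, 0, 0) * tau⁻¹ = P (1, 0, 0) ∧ tau * P (0, 1, 0) * tau⁻¹ = P (0, 1, 0) := by decide +kernel

/-- The three transvections of the third plane. -/
def cand (i : Fin 3) : S := P (i, i, i) * tau * (P (i, i, i))⁻¹

theorem cand_fix : ∀ i : Fin 3, ∀ x ∈ ([1, 8, 2, 16] : List (Fin 64)), app (cand i) x = x := by decide +kernel

theorem plane_fix : ∀ u : Fin 64, app (P (0, 1, 0)) u = u → app (P (0, 0, 1)) u = u → u ≠ 0 →
    app (P (1, 0, 0)) 1 = 8 ∧ app (P (1, 0, 0)) 8 = 9 ∧ (u = 1 ∨ u = 8 ∨ u = 9) := by decide +kernel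

theorem other_fix : ∀ u : Fin 64, app (P (1, 0, 0)) u = u → app (P (0, 0, 1)) u = u → u ≠ 0 →
    app (P (0, 1, 0)) 2 = 16 ∧ app (P (0, 1, 0)) 16 = 18 ∧ (u = 2 ∨ u = 16 ∨ u = 18) := by decide +kernel

theorem third : ∀ u : Fin 64, app (P (1, 0, 0)) u = u → app (P (0, 1, 0)) u = u → u ≠ 0 →
    ∃ i : Fin 3, app (cand i) 4 = u ∧ app (cand i) 32 = app (P (0, 0, 2)) u := by decide +kernel

theorem fix_pts : app (P (0, 1, 0)) 1 = 1 ∧ app (P (0, 0, 1)) 1 = 1 ∧ app (P (1, 0, 0)) 2 = 2 ∧
    app (P (0, 0, 1)) 2 = 2 ∧ app (P (1, 0, 0)) 4 = 4 ∧ app (P (0, 1, 0)) 4 = 4 ∧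
    app (P (1, 0, 0)) 1 = 8 ∧ app (P (0, 1, 0)) 2 = 16 ∧ app (P (0, 0, 1)) 4 = 32 ∧
    (∀ u : Fin 64, app (P (0, 0, 1)) (app (P (0, 0, 2)) u) = u) := by decide +kernel

/-- The involutions centralizing two planes' elements and inverting the third's. -/
theorem tau_class {d : S} (hd : d * d = 1) (h0 : d * P (1, 0, 0) * d⁻¹ = P (1, 0, 0))
    (h1 : d * P (0, 1, 0) * d⁻¹ = P (0, 1, 0)) (h2 : d * P (0, 0, 1) * d⁻¹ = P (0, 0, 2)) :
    ∃ i : Fin 3, d = cand i := by
  have hsq : ∀ x, app d (app d x) = x := fun x => by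
    change app (d * d) x = x
    rw [hd]; rfl
  have hc : ∀ (p p' : S), d * p * d⁻¹ = p' → ∀ x, app d (app p x) = app p' (app d x) := fun p p' h x => by
    change app (d * p) x = app (p' * d) x
    rw [mul_inv_eq_iff_eq_mul.1 h]
  have hne : ∀ x, x ≠ 0 → app d x ≠ 0 := fun x hx h => hx ((app d).injective (h.trans (lin d 0 0).2.2.symm))
  obtain ⟨f1, f2, f3, f4, f5, f6, f7, f8, f9, f10⟩ := fix_pts
  have c0 := hc _ _ h0
  have c1 := hc _ _ h1
  have c2 := hc _ _ h2
  have c2' : ∀ x, app d (app (P (0, 0, 2)) x) = app (P (0, 0, 1)) (app d x) := fun x => by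
    apply (app (P (0, 0, 2))).injective
    rw [← c2 (app (P (0, 0, 2)) x), f10]
    rw [show app (P (0, 0, 2)) (app (P (0, 0, 1)) (app d x)) = app (P ((0, 0, 2) + (0, 0, 1))) (app d x) by
      rw [← P_add]; rfl, show ((0, 0, 2) + (0, 0, 1) : U) = 0 from rfl, P_zero]
    rfl
  have fixP2 : ∀ x, app (P (0, 0, 1)) x = x → app (P (0, 0, 1)) (app d x) = app d x := fun x hx => by
    have h := c2' x
    rw [show app (P (0, 0, 2)) x = x by
      conv_lhs => rw [← hx]
      change app (P (0, 0, 2) * P (0, 0, 1)) x = x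
      rw [P_add, show ((0, 0, 2) + (0, 0, 1) : U) = 0 from rfl, P_zero]; rfl] at h
    exact h.symm
  -- the first plane is fixed
  have d1 : app d 1 = 1 := by
    have g1 : app (P (0, 1, 0)) (app d 1) = app d 1 := by rw [← c1, f1]
    have g2 := fixP2 1 f2
    obtain ⟨e1, e2, e3⟩ := plane_fix _ g1 g2 (hne 1 (by decide))
    have h8 : app d 8 = app (P (1, 0, 0)) (app d 1) := by rw [← c0, e1]
    have h9 : app d 9 = app (P (1, 0, 0)) (app d 8) := by rw [← c0, e2]
    rcases e3 with h | h | h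
    · exact h
    · have := hsq 1
      rw [h, h8, h, e2] at this
      exact absurd this (by decide)
    · have := hsq 1
      rw [h, h9, h8, h] at this
      exact absurd this (by decide +kernel)
  have d8 : app d 8 = 8 := by rw [← f7, c0, d1]
  have d2 : app d 2 = 2 := by
    have g0 : app (P (1, 0, 0)) (app d 2) = app d 2 := by rw [← c0, f3]
    obtain ⟨e1, e2, e3⟩ := other_fix _ g0 (fixP2 2 f4) (hne 2 (by decide))
    have h16 : app d 16 = app (P (0, 1, 0)) (app d 2) := by rw [← c1, e1]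
    have h18 : app d 18 = app (P (0, 1, 0)) (app d 16) := by rw [← c1, e2]
    rcases e3 with h | h | h
    · exact h
    · have := hsq 2
      rw [h, h16, h, e2] at this
      exact absurd this (by decide)
    · have := hsq 2
      rw [h, h18, h16, h] at this
      exact absurd this (by decide +kernel)
  have d16 : app d 16 = 16 := by rw [← f8, c1, d2]
  obtain ⟨i, i4, i32⟩ := third (app d 4) (by rw [← c0, f5]) (by rw [← c1, f6]) (hne 4 (by decide))
  refine ⟨i, ext_bas _ _ fun x hx => ?_⟩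
  simp only [bas, List.mem_cons, List.not_mem_nil, or_false] at hx
  rcases hx with rfl | rfl | rfl | rfl | rfl | rfl
  · rw [d1, cand_fix i _ (by decide)]
  · rw [d8, cand_fix i _ (by decide)]
  · rw [d2, cand_fix i _ (by decide)]
  · rw [d16, cand_fix i _ (by decide)]
  · exact i4.symm
  · rw [i32, ← f9, c2]

/-- Five vectors orthogonal to `3` and one more. -/
def bas3 : List (Fin 64) := [4, 1, 32, 59, 2, 16]

theorem bas3_span : ∀ y, ∃ m : Fin 64, combo bas3 m.val = y := by decide +kernel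

theorem perp3 : ∀ y : Fin 64, (∀ w ∈ ([4, 1, 32, 59, 2] : List (Fin 64)), bil y w = bil 16 w) →
    y = 16 ∨ y = tvFun 3 16 := by decide +kernel

theorem tv3_fix : ∀ w ∈ ([4, 1, 32, 59, 2] : List (Fin 64)), tvFun 3 w = w ∧ tvFun w 3 = 3 ∧
    tvFun w ≠ id ∧ w ≠ 0 := by decide +kernel

theorem words : app sig 4 = 1 ∧ app (P (0, 0, 1)) 4 = 32 ∧ app qS 4 = 59 ∧
    app sig (app sig 4) = 2 ∧ app (P (0, 1, 0) * sig * sig) 4 = 16 ∧
    app (P (0, 1, 0) * tvS 3 * P (1, 0, 0) * tvS 2 * qS) 4 = 34 ∧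
    app (sig * tvS 3 * P (0, 1, 0) * qS) 4 = 24 ∧ app (P (1, 0, 0) * sig) 4 = 8 := by decide +kernel

theorem cand_ne : ∀ i : Fin 3, P (i, i, i) * cand i * (P (i, i, i))⁻¹ = tau → i = 0 := by decide +kernel

/-- An endomorphism of order two fixing the centralizer of `z₀` is the identity. -/
theorem auto_trivial (θ : S →* S) (h2 : ∀ x, θ (θ x) = x) (hz : ∀ x, Commute x z0 → θ x = x) (x : S) :
    θ x = x := by
  obtain ⟨htau, -, h3ne, ht2, ht0, ht1⟩ := tau_facts
  have hP : ∀ u, θ (P u) = P u := fun u => hz _ (P_comm u (1, 1, 1))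
  obtain ⟨i, hi⟩ := tau_class (d := θ tau) (by rw [← map_mul, htau, map_one])
    (by rw [← hP (1, 0, 0), ← map_inv, ← map_mul, ← map_mul, ht0])
    (by rw [← hP (0, 1, 0), ← map_inv, ← map_mul, ← map_mul, ht1])
    (by rw [← hP (0, 0, 1), ← map_inv, ← map_mul, ← map_mul, ht2, hP])
  set c := P (i, i, i) with hc
  have hcc : θ c = c := hP _
  have hi0 : i = 0 := by
    refine cand_ne i ?_
    conv_rhs => rw [← h2 tau, hi, cand, ← hc, map_mul, map_mul, map_inv, hcc, hi]
  subst hi0
  have htau' : θ tau = tau := by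
    rw [hi, cand, show ((0, 0, 0) : U) = 0 from rfl, P_zero, one_mul, inv_one, mul_one]
  set H : Subgroup S := θ.eqLocus (MonoidHom.id S)
  have hH : ∀ g, θ g = g → g ∈ H := fun g hg => hg
  have hconj : ∀ (g : S) (v : Fin 64), g ∈ H → app g 4 = v → θ (tvS v) = tvS v := fun g v hg hv => by
    rw [← hv, ← tvS_conj]
    exact mul_mem (mul_mem hg (hH _ htau')) (inv_mem hg)
  have hPm : ∀ u, P u ∈ H := fun u => hH _ (hP u)
  have hs : sig ∈ H := hH _ (hz _ sig_comm)
  have hq : qS ∈ H := hH _ (hz _ q_comm)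
  obtain ⟨w1, w32, w59, w2, w16, w34, w24, w8⟩ := words
  have t1 := hconj sig 1 hs w1
  have t32 := hconj _ 32 (hPm _) w32
  have t59 := hconj qS 59 hq w59
  have t2 := hconj (sig * sig) 2 (mul_mem hs hs) w2
  have t3 : θ (tvS 3) = tvS 3 := by
    set d := θ (tvS 3) with hd
    have hfix : ∀ w ∈ ([4, 1, 32, 59, 2] : List (Fin 64)), app d w = w := by
      intro w hw
      obtain ⟨e1, e2, e3, e4⟩ := tv3_fix w hw
      have hw' : θ (tvS w) = tvS w := by
        simp only [List.mem_cons, List.not_mem_nil, or_false] at hw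
        rcases hw with rfl | rfl | rfl | rfl | rfl
        exacts [htau', t1, t32, t59, t2]
      have hcom : d * tvS w * d⁻¹ = tvS w := by
        conv_lhs => rw [hd, ← hw', ← map_inv, ← map_mul, ← map_mul, tvS_conj]
        rw [show app (tvS 3) w = w from e1, hw']
      rw [tvS_conj] at hcom
      exact (tv_eq (app d w) w fun v => congrArg (fun g : S => app g v) hcom).resolve_right fun h =>
        e3 ((funext fun v => (congrArg (fun g : S => app g v) hcom).symm).trans h)
    rcases perp3 (app d 16) (fun w hw => by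
        conv_lhs => rw [← hfix w hw]
        exact (lin d 16 w).1) with h | h
    · exfalso
      refine h3ne ?_
      have hd1 : d = 1 := ext_span _ _ bas3 bas3_span fun v hv => by
        simp only [bas3, List.mem_cons, List.not_mem_nil, or_false] at hv
        rcases hv with rfl | rfl | rfl | rfl | rfl | rfl
        · exact hfix _ (by decide)
        · exact hfix _ (by decide)
        · exact hfix _ (by decide)
        · exact hfix _ (by decide)
        · exact hfix _ (by decide)
        · exact h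
      rw [← h2 (tvS 3), ← hd, hd1, map_one]
    · refine ext_span _ _ bas3 bas3_span fun v hv => ?_
      simp only [bas3, List.mem_cons, List.not_mem_nil, or_false] at hv
      rcases hv with rfl | rfl | rfl | rfl | rfl | rfl
      · rw [hfix _ (by decide)]; exact (tv3_fix _ (by decide)).1.symm
      · rw [hfix _ (by decide)]; exact (tv3_fix _ (by decide)).1.symm
      · rw [hfix _ (by decide)]; exact (tv3_fix _ (by decide)).1.symm
      · rw [hfix _ (by decide)]; exact (tv3_fix _ (by decide)).1.symm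
      · rw [hfix _ (by decide)]; exact (tv3_fix _ (by decide)).1.symm
      · exact h
  have hr := hH _ t3
  have t16 := hconj _ 16 (mul_mem (mul_mem (hPm _) hs) hs) w16
  have t34 := hconj _ 34 (mul_mem (mul_mem (mul_mem (mul_mem (hPm _) hr) (hPm _)) (hH _ t2)) hq) w34
  have t24 := hconj _ 24 (mul_mem (mul_mem (mul_mem hs hr) (hPm _)) hq) w24
  have t8 := hconj _ 8 (mul_mem (hPm _) hs) w8
  have hnode : ∀ j : Fin 7, node j ∈ H := by
    have he : ∀ j : Fin 7, node j = tvS (nodeVec j) := fun j => rfl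
    intro j
    refine hH _ ?_
    rw [he]
    fin_cases j
    exacts [t32, t16, htau', t34, t24, t1, t8]
  have htop : H = ⊤ := top_le_iff.1 (closure_range_node ▸ (closure_le H).2 (by rintro _ ⟨j, rfl⟩; exact hnode j))
  exact (htop ▸ mem_top x : x ∈ H)

end Cfsg.Agent.FFourLocal.Lift
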