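import Cfsg.Agent.Lib.FFourLocal.Lift.Model
import Cfsg.Agent.Lib.FFourLocal.Cent.Action

/-!
# Weights in the frame, the Sylow subgroup, and no element of order five at weight two
-/

set_option autoImplicit false
set_option maxRecDepth 100000
set_option linter.unusedSectionVars false
set_option linter.style.haveILetI false

namespace Cfsg.Agent.FFourLocal.Lift

open Subgroup Cfsg.Agent.SpThreeCent.SixEnd

/-- All three coordinates nonzero. -/
def Full (u : U) : Prop := u.1 ≠ 0 ∧ u.2.1 ≠ 0 ∧ u.2.2 ≠ 0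

instance : DecidablePred Full := fun u => by unfold Full; infer_instance

/-- The involutions used as witnesses. -/
def invs : List S := [tvS 1, tvS 2, tvS 4, pr [3, 24, 27], pr [5, 40, 45], pr [6, 48, 54],
  pr [3, 24, 27, 1, 2], pr [5, 40, 45, 1, 4], pr [6, 48, 54, 2, 4]]

/-- A vector with a zero coordinate commutes with two commuting involutions. -/
theorem four_witness : ∀ u : U, ¬ Full u → ∃ s ∈ invs, ∃ s' ∈ invs, s * s = 1 ∧ s' * s' = 1 ∧ s ≠ 1 ∧
    s' ≠ 1 ∧ s ≠ s' ∧ s * s' = s' * s ∧ s * P u = P u * s ∧ s' * P u = P u * s' := by decide +kernel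

/-- The sign changes. -/
def flips : List S := [1, pr [1], pr [2], pr [4], pr [1, 2], pr [1, 4], pr [2, 4], pr [1, 2, 4]]

theorem full_conj : ∀ u : U, Full u → ∃ r ∈ flips, r * P u * r⁻¹ = z0 := by decide +kernel

/-- The permutations of the planes. -/
def perms : List S := [1, sig, sig * sig, pr [3, 24, 27], pr [5, 40, 45], pr [6, 48, 54]]

theorem short_cases : ∀ u : U, u ≠ 0 → ¬ Full u → ¬ Full (u + (1, 1, 1)) → ¬ Full (u + (2, 2, 2)) →
    u ∈ ([(0, 1, 2), (0, 2, 1), (1, 0, 2), (2, 0, 1), (1, 2, 0), (2, 1, 0)] : List U) := by decide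

theorem short_list : ∀ u ∈ ([(0, 1, 2), (0, 2, 1), (1, 0, 2), (2, 0, 1), (1, 2, 0), (2, 1, 0)] : List U),
    ∃ r ∈ perms, r * P u * r⁻¹ = P (0, 1, 2) ∧ r * z0 = z0 * r := by decide +kernel

theorem short_conj (u : U) (h0 : u ≠ 0) (h1 : ¬ Full u) (h2 : ¬ Full (u + (1, 1, 1)))
    (h3 : ¬ Full (u + (2, 2, 2))) : ∃ r ∈ perms, r * P u * r⁻¹ = P (0, 1, 2) ∧ r * z0 = z0 * r :=
  short_list u (short_cases u h0 h1 h2 h3)

/-- The candidates for the long element. -/
theorem long_cases : ∀ v : U, ¬ Full v → ¬ Full ((1, 1, 1) - v) →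
    (∀ i j : Fin 3, v ≠ (i, i, i) + (0, j, j + j)) →
    v = (1, 0, 0) ∨ v = (0, 1, 0) ∨ v = (0, 0, 1) ∨ v = (0, 1, 1) ∨ v = (1, 0, 1) ∨ v = (1, 1, 0) := by decide

/-- The number of fixed points. -/
def fc (g : S) : ℕ := (Finset.univ.filter fun v : Fin 64 => app g v = v).card

theorem fc_conj (g p : S) : fc (g * p * g⁻¹) = fc p := by
  refine (Finset.card_bij (fun v _ => app g v) (fun v hv => ?_) (fun v _ w _ h => (app g).injective h)
    fun v hv => ⟨(app g).symm v, ?_, Equiv.apply_symm_apply _ v⟩).symm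
  · simp only [Finset.mem_filter, Finset.mem_univ, true_and] at hv ⊢
    change app g (app p ((app g).symm (app g v))) = app g v
    rw [Equiv.symm_apply_apply, hv]
  · simp only [Finset.mem_filter, Finset.mem_univ, true_and] at hv ⊢
    change app g (app p ((app g).symm v)) = v at hv
    exact (app g).injective (by rw [hv, Equiv.apply_symm_apply])

/-- An inverting element separates the coordinate of the long element from the other two. -/
theorem fc_ne : fc (P (0, 0, 2)) ≠ fc (P (0, 1, 1)) ∧ fc (P (0, 1, 0)) ≠ fc (P (0, 2, 2)) := by decide +kernel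

/-- The Sylow subgroup containing the frame. -/
def T81 : Subgroup S := E3 ⊔ zpowers sig

theorem sig_norm : zpowers sig ≤ normalizer (E3 : Set S) := zpowers_le.2 <| mem_normalizer_iff.2 fun x => by
  constructor
  · rintro ⟨u, rfl⟩; exact ⟨rot u, (sig_conj u).symm⟩
  · rintro ⟨u, hu⟩
    refine ⟨rot (rot u), ?_⟩
    have h : rot (rot (rot u)) = u := rfl
    rw [← mul_right_inj sig, ← mul_left_inj sig⁻¹, sig_conj, h]
    exact hu

theorem mem_T81 {x : S} (hx : x ∈ T81) : ∃ u : U, ∃ n : Fin 3, x = P u * sig ^ n.val := by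
  rw [T81, ← SetLike.mem_coe, coe_mul_of_right_le_normalizer_left E3 (zpowers sig) sig_norm] at hx
  obtain ⟨_, ⟨u, rfl⟩, w, hw, e⟩ := hx
  obtain ⟨n, rfl⟩ := (mem_powers_iff_mem_zpowers.2 hw : w ∈ Submonoid.powers sig)
  exact ⟨u, ⟨n % 3, Nat.mod_lt _ (by norm_num)⟩, by rw [← e]; exact congrArg (P u * ·) (pow_mod_three sig_cube n)⟩

theorem sig_not : sig ∉ E3 ∧ sig * sig ∉ E3 := by
  constructor <;>
  · rintro ⟨u, hu⟩
    have h : sig * P (1, 0, 0) * sig⁻¹ = P (0, 1, 0) := sig_conj _
    have hc := P_comm u (1, 0, 0)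
    rw [hu] at hc
    revert hc
    clear h hu
    intro hc
    exact absurd (congrArg (fun g : S => app g 1) hc.eq) (by decide +kernel)

theorem card_T81 : Nat.card ↥T81 = 81 := by
  have h := card_prod_eq sig_norm
  have hi : E3 ⊓ zpowers sig = ⊥ := by
    refine (eq_bot_iff_forall _).2 fun x hx => ?_
    obtain ⟨n, rfl⟩ := (mem_powers_iff_mem_zpowers.2 hx.2 : x ∈ Submonoid.powers sig)
    have he : sig ^ n ∈ E3 := hx.1
    change sig ^ n = 1
    rw [pow_mod_three sig_cube n] at he ⊢
    obtain h | h | h : n % 3 = 0 ∨ n % 3 = 1 ∨ n % 3 = 2 := by omega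
    · rw [h, pow_zero]
    · rw [h, pow_one] at he; exact absurd he sig_not.1
    · rw [h, pow_two] at he; exact absurd he sig_not.2
  rw [hi, card_bot, mul_one, card_E3, Nat.card_zpowers,
    orderOf_three sig_cube fun e => sig_not.1 (e ▸ one_mem _)] at h
  exact h

theorem diag_of_comm {u v : U} {n : Fin 3} (hn : n ≠ 0) (h : Commute (P v * sig ^ n.val) (P u)) :
    u.1 = u.2.1 ∧ u.2.1 = u.2.2 := by
  have h1 : sig ^ n.val * P u * (sig ^ n.val)⁻¹ = P u := by
    have h2 : Commute (sig ^ n.val) (P u) := by simpa using ((P_comm v u).inv_left).mul_left h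
    rw [h2.eq, mul_inv_cancel_right]
  obtain h' | h' : n = 1 ∨ n = 2 := by
    fin_cases n
    exacts [absurd rfl hn, Or.inl rfl, Or.inr rfl]
  · subst h'
    rw [Fin.val_one, pow_one, sig_conj] at h1
    exact sig_diag u (Or.inl (P_injective h1))
  · subst h'
    rw [show ((2 : Fin 3) : ℕ) = 2 from rfl, pow_two,
      show sig * sig * P u * (sig * sig)⁻¹ = sig * (sig * P u * sig⁻¹) * sig⁻¹ by group, sig_conj, sig_conj] at h1
    exact sig_diag u (Or.inr (P_injective h1))

/-- An elementary abelian subgroup of order 27 is conjugate to the frame. -/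
theorem exists_frame_conj (K : Subgroup S) (hcard : Nat.card ↥K = 27)
    (hcomm : ∀ x ∈ K, ∀ y ∈ K, x * y = y * x) : ∃ g : S, ∀ x ∈ K, ∃ u, g⁻¹ * x * g = P u := by
  haveI : Fact (Nat.Prime 3) := ⟨Nat.prime_three⟩
  haveI : Finite S := inferInstance
  have hK : IsPGroup 3 ↥K := IsPGroup.of_card (n := 3) (by rw [hcard]; norm_num)
  obtain ⟨A, hA⟩ := hK.exists_le_sylow
  obtain ⟨B, hB⟩ := (IsPGroup.of_card (p := 3) (n := 4) (by rw [card_T81]; norm_num) : IsPGroup 3 ↥T81).exists_le_sylow
  have hBT : (B : Subgroup S) = T81 := by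
    refine (Subgroup.eq_of_le_of_card_ge hB ?_).symm
    obtain ⟨k, hk⟩ := IsPGroup.iff_card.1 B.isPGroup'
    have hd := (B : Subgroup S).card_subgroup_dvd_card
    rw [hk, card_S] at hd
    rw [card_T81, hk]
    rcases Nat.lt_or_ge k 5 with h | h
    · calc 3 ^ k ≤ 3 ^ 4 := Nat.pow_le_pow_right (by norm_num) (by omega)
        _ = 81 := by norm_num
    · exfalso
      exact absurd ((pow_dvd_pow 3 h).trans hd) (by norm_num)
  obtain ⟨g, hg⟩ := MulAction.exists_smul_eq S B A
  set K' := K.map (MulAut.conj g⁻¹).toMonoidHom with hK'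
  have hle : K' ≤ T81 := by
    rintro _ ⟨x, hx, rfl⟩
    have h := hA hx
    rw [← hg, Sylow.smul_def] at h
    obtain ⟨r, hr, rfl⟩ := h
    rw [← hBT]
    change g⁻¹ * (g * r * g⁻¹) * g⁻¹⁻¹ ∈ _
    rw [show g⁻¹ * (g * r * g⁻¹) * g⁻¹⁻¹ = r by group]
    exact hr
  refine ⟨g, fun x hx => ?_⟩
  have hx' : g⁻¹ * x * g ∈ K' := ⟨x, hx, by simp [mul_assoc]⟩
  obtain ⟨v, n, hv⟩ := mem_T81 (hle hx')
  by_cases hn : n = 0
  · exact ⟨v, by rw [hv, hn, Fin.val_zero, pow_zero, mul_one]⟩
  exfalso
  have hTn : K' ≤ normalizer (E3 : Set S) :=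
    hle.trans (sup_le le_normalizer sig_norm)
  have hprod := card_prod_eq hTn
  have hle81 : Nat.card ↥(E3 ⊔ K') ≤ 81 := card_T81 ▸ Subgroup.card_le_of_le (sup_le le_sup_left hle)
  have hinter : Nat.card ↥(E3 ⊓ K') ≤ 3 := by
    let f : Fin 3 → S := fun i => P (i, i, i)
    have hsub : ((E3 ⊓ K' : Subgroup S) : Set S) ⊆ Set.range f := by
      rintro y ⟨⟨u, rfl⟩, hy⟩
      have hc : Commute (P v * sig ^ n.val) (P u) := by
        rw [← hv]
        obtain ⟨y', hy', e⟩ := hy
        have : g⁻¹ * x * g = (MulAut.conj g⁻¹).toMonoidHom x := by simp [mul_assoc]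
        rw [this, ← e]
        exact (show Commute x y' from hcomm x hx y' hy').map _
      obtain ⟨e1, e2⟩ := diag_of_comm hn hc
      exact ⟨u.1, congrArg P (Prod.ext rfl (Prod.ext e1 (e1.trans e2)))⟩
    calc Nat.card ↥(E3 ⊓ K') ≤ Nat.card ↥(Set.range f) := Nat.card_mono (Set.finite_range f) hsub
      _ ≤ Nat.card (Fin 3) := Finite.card_range_le f
      _ = 3 := Nat.card_fin 3
  rw [card_E3, hK', card_map_of_injective (MulAut.conj g⁻¹).injective, hcard] at hprod
  have := Nat.mul_le_mul hle81 hinter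
  rw [← hK'] at hprod
  omega

/-- An element of order five in the centralizer of a long element. -/
def five : S := pr [2, 4, 16, 34]

theorem five_facts : five ^ 5 = 1 ∧ five ≠ 1 ∧ five * P (1, 0, 0) = P (1, 0, 0) * five := by decide +kernel

/-- The fixed plane and the six anisotropic points of its orthogonal space. -/
def inX (u : Fin 64) : Bool :=
  [1, 8].all (fun f => !bil u f) && bil u (app (P (0, 1, 1)) u)

/-- The value on two lines of a map commuting with the element of weight two. -/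
def line2 (u v : Fin 64) (x : Fin 64) : Fin 64 :=
  if x = 2 then u else if x = 4 then v
  else if x = 16 then app (P (0, 1, 1)) u else if x = 32 then app (P (0, 1, 1)) v
  else if x = 18 then app (P (0, 1, 1)) (app (P (0, 1, 1)) u) else app (P (0, 1, 1)) (app (P (0, 1, 1)) v)

/-- The value on the fixed plane of a linear map. -/
def plane0 (u v : Fin 64) (x : Fin 64) : Fin 64 := if x = 1 then u else if x = 8 then v else vadd u v

theorem five_plane : ∀ u v : Fin 64, app (P (0, 1, 1)) u = u → app (P (0, 1, 1)) v = v → u ≠ 0 → v ≠ 0 →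
    (u = 1 ∨ u = 8 ∨ u = 9) ∧ (v = 1 ∨ v = 8 ∨ v = 9) ∧ vadd 1 8 = 9 := by decide +kernel

theorem five_plane_iter : ∀ u ∈ ([1, 8, 9] : List (Fin 64)), ∀ v ∈ ([1, 8, 9] : List (Fin 64)),
    (plane0 u v)^[5] 1 = 1 → (plane0 u v)^[5] 8 = 8 → u = 1 ∧ v = 8 := by decide +kernel

theorem inX_iff : ∀ u : Fin 64, inX u = true ↔ u ∈ ([2, 4, 16, 18, 32, 36] : List (Fin 64)) := by decide +kernel

theorem five_lines_iter : ∀ u ∈ ([2, 4, 16, 18, 32, 36] : List (Fin 64)),
    ∀ v ∈ ([2, 4, 16, 18, 32, 36] : List (Fin 64)),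
    (line2 u v)^[5] 2 = 2 → (line2 u v)^[5] 4 = 4 → u = 2 ∧ v = 4 := by decide +kernel

theorem five_tab : app (P (0, 1, 1)) 1 = 1 ∧ app (P (0, 1, 1)) 8 = 8 ∧ app (P (0, 1, 1)) 2 = 16 ∧
    app (P (0, 1, 1)) 16 = 18 ∧ app (P (0, 1, 1)) 4 = 32 ∧ app (P (0, 1, 1)) 32 = 36 ∧
    inX 2 = true ∧ inX 4 = true := by decide +kernel

/-- No element of order five centralizes an element of weight two. -/
theorem no_five (d : S) (h5 : d ^ 5 = 1) (hc : d * P (0, 1, 1) = P (0, 1, 1) * d) : d = 1 := by
  set p := P (0, 1, 1) with hp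
  have hcx : ∀ x, app d (app p x) = app p (app d x) := fun x => congrArg (fun g : S => app g x) hc
  have hit : ∀ x, (app d)^[5] x = x := fun x => by
    change app d (app d (app d (app d (app d x)))) = x
    have e := congrArg (fun g : S => app g x) h5
    simp only [pow_succ, pow_zero, one_mul] at e
    exact e
  have hne : ∀ x, x ≠ 0 → app d x ≠ 0 := fun x hx h => hx ((app d).injective (h.trans (lin d 0 0).2.2.symm))
  obtain ⟨t1, t8, t2, t16, t4, t32, x2, x4⟩ := five_tab
  have k1 : app p (app d 1) = app d 1 := by rw [← hcx, t1]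
  have k8 : app p (app d 8) = app d 8 := by rw [← hcx, t8]
  obtain ⟨hu, hv, h18⟩ := five_plane _ _ k1 k8 (hne 1 (by decide)) (hne 8 (by decide))
  set f0 := plane0 (app d 1) (app d 8) with hf0
  have hstep : ∀ n : ℕ, ∀ x ∈ ([1, 8, 9] : List (Fin 64)), f0^[n] x = (app d)^[n] x := by
    intro n
    induction n with
    | zero => exact fun x _ => rfl
    | succ n ih =>
      intro x hx
      rw [Function.iterate_succ_apply, Function.iterate_succ_apply]
      have e : f0 x = app d x := by
        simp only [List.mem_cons, List.not_mem_nil, or_false] at hx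
        rcases hx with rfl | rfl | rfl
        · rfl
        · rfl
        · change vadd (app d 1) (app d 8) = _
          rw [← (lin d 1 8).2.1, h18]
      rw [e]
      refine ih _ ?_
      simp only [List.mem_cons, List.not_mem_nil, or_false] at hx ⊢
      rcases hx with rfl | rfl | rfl
      · exact hu
      · exact hv
      · have h9 : app p (app d 9) = app d 9 := by
          rw [← h18, (lin d 1 8).2.1, (lin p _ _).2.1, k1, k8]
        exact (five_plane _ _ h9 k1 (hne 9 (by decide)) (hne 1 (by decide))).1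
  obtain ⟨d1, d8⟩ := five_plane_iter (app d 1) (by simpa using hu) (app d 8) (by simpa using hv)
    ((hstep 5 1 (by simp)).trans (hit 1)) ((hstep 5 8 (by simp)).trans (hit 8))
  have hX : ∀ x, inX x = true → inX (app d x) = true := fun x hx => by
    simp only [inX, List.all_cons, List.all_nil, Bool.and_true, Bool.and_eq_true, Bool.not_eq_true'] at hx ⊢
    obtain ⟨⟨h1, h8'⟩, h3⟩ := hx
    refine ⟨⟨?_, ?_⟩, ?_⟩
    · rw [← d1, (lin d x 1).1]; exact h1
    · rw [← d8, (lin d x 8).1]; exact h8'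
    · rw [← hcx, (lin d x _).1]; exact h3
  set f1 := line2 (app d 2) (app d 4) with hf1
  have hstep1 : ∀ n : ℕ, ∀ x, inX x = true → f1^[n] x = (app d)^[n] x := by
    intro n
    induction n with
    | zero => exact fun x _ => rfl
    | succ n ih =>
      intro x hx
      rw [Function.iterate_succ_apply, Function.iterate_succ_apply]
      have e : f1 x = app d x := by
        have hx' := (inX_iff x).1 hx
        simp only [List.mem_cons, List.not_mem_nil, or_false] at hx'
        rcases hx' with rfl | rfl | rfl | rfl | rfl | rfl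
        · rfl
        · rfl
        · change app p (app d 2) = _
          rw [← hcx, t2]
        · change app p (app p (app d 2)) = _
          rw [← hcx, ← hcx, t2, t16]
        · change app p (app d 4) = _
          rw [← hcx, t4]
        · change app p (app p (app d 4)) = _
          rw [← hcx, ← hcx, t4, t32]
      rw [e]
      exact ih _ (hX x hx)
  obtain ⟨d2, d4⟩ := five_lines_iter (app d 2) ((inX_iff _).1 (hX 2 x2)) (app d 4) ((inX_iff _).1 (hX 4 x4))
    ((hstep1 5 2 x2).trans (hit 2)) ((hstep1 5 4 x4).trans (hit 4))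
  refine ext_bas _ _ fun x hx => ?_
  simp only [bas, List.mem_cons, List.not_mem_nil, or_false] at hx
  change app d x = x
  rcases hx with rfl | rfl | rfl | rfl | rfl | rfl
  · exact d1
  · exact d8
  · exact d2
  · rw [← t2, hcx, d2]
  · exact d4
  · rw [← t4, hcx, d4]

end Cfsg.Agent.FFourLocal.Lift
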