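import Cfsg.Agent.Lib.FFourLocal.SixData
import Cfsg.Agent.Lib.SpThreeCent.SixEnd.Bridge

/-!
# A complement to `⟨a⟩` in `C(a)` isomorphic to `Sp₆(2)`, and its normalization by an inverting involution
-/

set_option autoImplicit false
set_option linter.unusedSectionVars false

namespace Cfsg.Agent.FFourLocal.Lift

open Subgroup Cfsg.Agent.SpThreeCent.SixEnd

universe u

variable {G : Type u} [Group G] {a t : G}

/-- `C(a)` is `⟨a⟩ × f(S)`. -/
structure Sec (a : G) (f : S →* G) : Prop where
  inj : Function.Injective f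
  comm : ∀ s, Commute (f s) a
  split : ∀ x, Commute x a → ∃ k : ℕ, ∃ s, x = a ^ k * f s
  free : ∀ s, f s ∈ zpowers a → s = 1

theorem center_S : center S = ⊥ := by
  haveI := isSimpleGroup_S
  refine ((inferInstance : (center S).Normal).eq_bot_or_eq_top).resolve_right fun h => ?_
  have h0 : node 0 * node 2 = node 2 * node 0 := (mem_center_iff.1 (h ▸ mem_top (node 0)) (node 2)).symm
  exact absurd h0 (by decide +kernel)

theorem eq_one_of_two_three {x : G} (h2 : x * x = 1) (h3 : x ^ 3 = 1) : x = 1 := by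
  rw [pow_succ, pow_two, h2, one_mul] at h3
  exact h3

theorem exists_sec (ha : a ^ 3 = 1) (h : Big a) : ∃ f : S →* G, Sec a f := by
  obtain ⟨π, hπ, hk⟩ := h
  have hcen : ∀ x : ↥(centralizer ({a} : Set G)), Commute (x : G) a := fun x => mem_centralizer_singleton_iff.1 x.2
  have hker : ∀ x : ↥(centralizer ({a} : Set G)), π x = 1 → (x : G) ^ 3 = 1 ∧ ∀ y : ↥(centralizer ({a} : Set G)), Commute x y := fun x hx => by
    obtain ⟨k, hk'⟩ := mem_zpowers_iff.1 ((hk x).1 hx)
    refine ⟨?_, fun y => Subtype.ext ?_⟩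
    · have e : (a ^ k) ^ 3 = (a ^ 3) ^ k := by
        rw [← zpow_natCast, ← zpow_mul, mul_comm, zpow_mul, zpow_natCast]
      rw [← hk', e, ha, one_zpow]
    · change (x : G) * (y : G) = (y : G) * (x : G)
      rw [← hk']
      exact (((hcen y).symm).zpow_left k).eq
  have huniq : ∀ x y : ↥(centralizer ({a} : Set G)), x * x = 1 → y * y = 1 → π x = π y → x = y := by
    intro x y hx hy hxy
    have hd : π (x * y) = 1 := by rw [map_mul, hxy, ← map_mul, hy, map_one]
    obtain ⟨h3, hc⟩ := hker _ hd
    have hyi : y⁻¹ = y := inv_eq_of_mul_eq_one_left hy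
    have hc' : Commute x y := by
      have hh := hc y
      have e : x * y * y = y * (x * y) := hh.eq
      rw [mul_assoc, hy, mul_one] at e
      show x * y = y * x
      calc x * y = y * (x * y) * y := by rw [← e]
        _ = y * x * (y * y) := by group
        _ = y * x := by rw [hy, mul_one]
    have h2 : (x * y) * (x * y) = 1 := by
      calc x * y * (x * y) = x * (y * x) * y := by group
        _ = (x * x) * (y * y) := by rw [← hc'.eq]; group
        _ = 1 := by rw [hx, hy, one_mul]
    have h1 : x * y = 1 := Subtype.ext (eq_one_of_two_three (congrArg Subtype.val h2) h3)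
    rw [eq_inv_of_mul_eq_one_left h1, hyi]
  have hlift : ∀ i : Fin 7, ∃ n : ↥(centralizer ({a} : Set G)), n * n = 1 ∧ π n = node i := by
    intro i
    obtain ⟨x, hx⟩ := hπ (node i)
    have hxx : π (x * x) = 1 := by rw [map_mul, hx, node_sq]
    obtain ⟨h3, -⟩ := hker _ hxx
    refine ⟨x ^ 3, ?_, ?_⟩
    · rw [← pow_add, show 3 + 3 = 2 * 3 from rfl, pow_mul, pow_two]
      exact Subtype.ext h3
    · rw [map_pow, hx, pow_succ, pow_two, node_sq, one_mul]
  choose n hn2 hnπ using hlift
  have hbr : ∀ i j, CoxeterMatrix.E₇ i j = 3 → n i * n j * n i = n j * n i * n j := by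
    intro i j hij
    refine huniq _ _ ?_ ?_ (by simp only [map_mul, hnπ]; exact node_braid hij)
    · calc n i * n j * n i * (n i * n j * n i) = n i * n j * (n i * n i) * n j * n i := by group
        _ = n i * (n j * n j) * n i := by rw [hn2]; group
        _ = 1 := by rw [hn2, mul_one, hn2]
    · calc n j * n i * n j * (n j * n i * n j) = n j * n i * (n j * n j) * n i * n j := by group
        _ = n j * (n i * n i) * n j := by rw [hn2]; group
        _ = 1 := by rw [hn2, mul_one, hn2]
  have hcm : ∀ i j, CoxeterMatrix.E₇ i j = 2 → Commute (n i) (n j) := by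
    intro i j hij
    have h : n i * n j * n i = n j := by
      refine huniq _ _ ?_ (hn2 j) ?_
      · calc n i * n j * n i * (n i * n j * n i) = n i * n j * (n i * n i) * n j * n i := by group
          _ = n i * (n j * n j) * n i := by rw [hn2]; group
          _ = 1 := by rw [hn2, mul_one, hn2]
      · simp only [map_mul, hnπ]
        rw [(node_comm hij).eq, mul_assoc, node_sq, mul_one]
    show n i * n j = n j * n i
    calc n i * n j = n i * n j * (n i * n i) := by rw [hn2, mul_one]
      _ = n i * n j * n i * n i := by group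
      _ = _ := by rw [h]
  obtain ⟨f, -, hf⟩ := exists_model_hom n hn2 hcm hbr
    (fun hc => absurd (by have := hc.map π; rw [hnπ, hnπ] at this; exact this.eq :
      node 0 * node 2 = node 2 * node 0) (by decide +kernel))
    (fun z hz hzz hzn => by
      have hzc : π z ∈ center S := mem_center_iff.2 fun s => by
        have hs : s ∈ closure (Set.range node) := closure_range_node ▸ mem_top s
        have hle : closure (Set.range node) ≤ centralizer ({π z} : Set S) := (closure_le _).2 (by
          rintro _ ⟨i, rfl⟩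
          have := (hzn i).map π
          rw [hnπ] at this
          exact mem_centralizer_singleton_iff.2 this.eq.symm)
        exact mem_centralizer_singleton_iff.1 (hle hs)
      rw [center_S, mem_bot] at hzc
      exact Subtype.ext (eq_one_of_two_three (congrArg Subtype.val hzz) (hker z hzc).1))
  have hπf : π.comp f = MonoidHom.id S :=
    MonoidHom.eq_of_eqOn_dense closure_range_node (by rintro _ ⟨i, rfl⟩; simp [hf, hnπ])
  have hπf' : ∀ s, π (f s) = s := DFunLike.congr_fun hπf
  refine ⟨(centralizer ({a} : Set G)).subtype.comp f, ⟨fun s s' hss => ?_, fun s => hcen _, fun x hx => ?_, fun s hs => ?_⟩⟩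
  · have hff : f s = f s' := Subtype.ext hss
    rw [← hπf' s, hff, hπf']
  · set x' : ↥(centralizer ({a} : Set G)) := ⟨x, mem_centralizer_singleton_iff.2 hx.eq⟩
    have h1 : π (x' * (f (π x'))⁻¹) = 1 := by rw [map_mul, map_inv, hπf', mul_inv_cancel]
    haveI : IsOfFinOrder a := isOfFinOrder_iff_pow_eq_one.2 ⟨3, by norm_num, ha⟩
    obtain ⟨k, hk'⟩ := ((IsOfFinOrder.mem_powers_iff_mem_zpowers this).2 ((hk _).1 h1) :
      _ ∈ Submonoid.powers a)
    refine ⟨k, π x', ?_⟩
    change a ^ k = x * ((f (π x') : ↥(centralizer ({a} : Set G))) : G)⁻¹ at hk'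
    change x = a ^ k * ((f (π x') : ↥(centralizer ({a} : Set G))) : G)
    rw [hk', inv_mul_cancel_right]
  · rw [← hπf' s, hk]
    exact hs

namespace Sec

variable {f : S →* G} (F : Sec a f)
include F

theorem conj (g : S) : Sec a (f.comp (MulAut.conj g).toMonoidHom) := by
  refine ⟨F.inj.comp (MulAut.conj g).injective, fun s => F.comm _, fun x hx => ?_, fun s hs => ?_⟩
  · obtain ⟨k, s, hs⟩ := F.split x hx
    exact ⟨k, (MulAut.conj g).symm s, by rw [hs]; simp; group⟩
  · exact (MulAut.conj g).map_eq_one_iff.1 (F.free _ hs)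

/-- Uniqueness of the components. -/
theorem unique {k k' : ℕ} {s s' : S} (h : a ^ k * f s = a ^ k' * f s') : s = s' ∧ a ^ k = a ^ k' := by
  have h1 : f (s * s'⁻¹) = (a ^ k)⁻¹ * a ^ k' := by
    rw [map_mul, map_inv, show f s = (a ^ k)⁻¹ * (a ^ k * f s) by group, h]
    group
  have h2 := F.free _ (h1 ▸ mul_mem (inv_mem (pow_mem (mem_zpowers a) k)) (pow_mem (mem_zpowers a) k'))
  rw [mul_inv_eq_one] at h2
  subst h2
  exact ⟨rfl, mul_right_cancel h⟩

/-- An element whose square is one lies in the complement. -/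
theorem invol (ha : a ^ 3 = 1) {x : G} (hx : Commute x a) (h2 : x * x = 1) : ∃ s, f s = x := by
  obtain ⟨k, s, rfl⟩ := F.split x hx
  have hc : Commute (f s) (a ^ k) := (F.comm s).pow_right k
  have e : a ^ (k + k) * f (s * s) = a ^ 0 * f 1 := by
    rw [pow_zero, map_one, one_mul, map_mul, pow_add, ← h2]
    calc a ^ k * a ^ k * (f s * f s) = a ^ k * (a ^ k * f s) * f s := by group
      _ = a ^ k * (f s * a ^ k) * f s := by rw [hc.eq]
      _ = _ := by group
  have e2 := (F.unique e).2
  rw [pow_zero, pow_add] at e2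
  refine ⟨s, ?_⟩
  rw [eq_one_of_two_three e2 (by rw [← pow_mul, mul_comm, pow_mul, ha, one_pow]), one_mul]

/-- An inverting involution acts on the complement. -/
theorem exists_theta (ha : a ^ 3 = 1) (ht : t * t = 1) (hta : t * a * t⁻¹ = a⁻¹) :
    ∃ θ : S →* S, (∀ s, θ (θ s) = s) ∧ ∀ s, f (θ s) = t * f s * t⁻¹ := by
  classical
  let A : Subgroup S := f.range.comap ((MulAut.conj t).toMonoidHom.comp f)
  have hA : A = ⊤ := top_le_iff.1 (closure_range_node ▸ (closure_le A).2 (by
    rintro _ ⟨i, rfl⟩
    show (MulAut.conj t).toMonoidHom (f (node i)) ∈ f.range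
    have hx : Commute (t * f (node i) * t⁻¹) a := by
      have ha' : a = t * a⁻¹ * t⁻¹ := by
        rw [show t * a⁻¹ * t⁻¹ = (t * a * t⁻¹)⁻¹ by group, hta, inv_inv]
      rw [show Commute (t * f (node i) * t⁻¹) a ↔ Commute (t * f (node i) * t⁻¹) (t * a⁻¹ * t⁻¹) by rw [← ha'],
        Commute, SemiconjBy]
      have hc := (F.comm (node i)).inv_right.eq
      calc t * f (node i) * t⁻¹ * (t * a⁻¹ * t⁻¹) = t * (f (node i) * a⁻¹) * t⁻¹ := by group
        _ = t * (a⁻¹ * f (node i)) * t⁻¹ := by rw [hc]
        _ = _ := by group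
    have h2 : t * f (node i) * t⁻¹ * (t * f (node i) * t⁻¹) = 1 := by
      calc t * f (node i) * t⁻¹ * (t * f (node i) * t⁻¹) = t * (f (node i) * f (node i)) * t⁻¹ := by group
        _ = 1 := by rw [← map_mul, node_sq, map_one]; group
    exact F.invol ha hx h2))
  have hex : ∀ s, ∃ s', f s' = t * f s * t⁻¹ := fun s => (hA ▸ mem_top s : s ∈ A)
  choose θ hθ using hex
  refine ⟨MonoidHom.mk' θ (fun x y => F.inj (by
    rw [map_mul, hθ, hθ, hθ, map_mul]; group)), fun s => F.inj ?_, hθ⟩
  show f (θ (θ s)) = f s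
  rw [hθ, hθ]
  calc t * (t * f s * t⁻¹) * t⁻¹ = (t * t) * f s * (t * t)⁻¹ := by group
    _ = f s := by rw [ht]; group

/-- With trivial action the complement is the centralizer of `a` and `t`. -/
theorem range_eq (ha : a ^ 3 = 1) (hta : t * a * t⁻¹ = a⁻¹) (hfix : ∀ s, t * f s * t⁻¹ = f s) :
    f.range = centralizer ({a, t} : Set G) := by
  refine le_antisymm ?_ fun x hx => ?_
  · rintro _ ⟨s, rfl⟩
    refine mem_centralizer_iff.2 fun u hu => ?_
    rcases hu with rfl | rfl
    · exact (F.comm s).eq.symm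
    · exact mul_inv_eq_iff_eq_mul.1 (hfix s)
  · have h1 : a * x = x * a := mem_centralizer_iff.1 hx a (Set.mem_insert _ _)
    have h2 : t * x = x * t := mem_centralizer_iff.1 hx t (Set.mem_insert_of_mem _ rfl)
    obtain ⟨k, s, rfl⟩ := F.split x h1.symm
    have e : t * (a ^ k * f s) * t⁻¹ = a ^ k * f s := by rw [h2, mul_inv_cancel_right]
    rw [show t * (a ^ k * f s) * t⁻¹ = (t * a * t⁻¹) ^ k * (t * f s * t⁻¹) by rw [conj_pow]; group,
      hta, hfix, inv_pow] at e
    have e1 := mul_right_cancel e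
    have e2 : a ^ k * a ^ k = 1 := by
      conv_lhs => rw [← e1]
      rw [e1]
      conv_lhs => arg 1; rw [← e1]
      rw [inv_mul_cancel]
    refine ⟨s, ?_⟩
    rw [eq_one_of_two_three e2 (by rw [← pow_mul, mul_comm, pow_mul, ha, one_pow]), one_mul]

end Sec

end Cfsg.Agent.FFourLocal.Lift
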