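import Cfsg.Agent.Lib.FFourLocal.Lift.Auto
import Cfsg.Agent.Lib.FFourLocal.Lift.Facts
import Cfsg.Agent.Lib.FFourLocal.Lift.Section

/-!
# The coordinates of `C(a) = 3 × Sp₆(2)`
-/

set_option autoImplicit false
set_option maxRecDepth 100000
set_option linter.unusedSectionVars false
set_option linter.style.haveILetI false

namespace Cfsg.Agent.FFourLocal.Lift

open Subgroup Cfsg.Agent.SpThreeCent.SixEnd
open scoped commutatorElement

universe u

variable {G : Type u} [Group G] [Finite G] {Z Q Q1 Q2 L1 L2 E : Subgroup G} {t1 t2 z y a b : G}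
variable (D : Local Z Q Q1 Q2 L1 L2 E t1 t2 z y a b)
include D

/-- An element of `Q` centralizing `a` is `a ^ i * z ^ k` times an element of `Q2`. -/
theorem cent_a_Q {q : G} (hq : q ∈ Q) (hqa : q * a = a * q) :
    ∃ i k : ℕ, ∃ v ∈ Q2, q = a ^ i * z ^ k * v := by
  obtain ⟨u, hu, v, hv, rfl⟩ := D.base.mem_Q_split hq
  obtain ⟨r, hr, har⟩ := D.base.exists_partner D.base.le1 (fun u hu v hv => D.base.Q_comm u hu v hv)
    D.base.Q_prod D.a_mem D.a_not D.z_mem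
  obtain ⟨i, j, k, rfl⟩ :=
    (D.base.factor_coords D.base.le1 D.base.card1 D.base.Z1 D.a_mem hr D.z_mem D.z_ne har).1 u hu
  have hva : Commute v a := (D.base.Q_comm a D.a_mem v hv).symm
  have hua : Commute (a ^ (i : ℕ) * r ^ (j : ℕ) * z ^ (k : ℕ)) a := by
    have h := (show Commute (a ^ (i : ℕ) * r ^ (j : ℕ) * z ^ (k : ℕ) * v) a from hqa).mul_left hva.inv_left
    simpa using h
  have hrj : Commute (r ^ (j : ℕ)) a := by
    have h1 : Commute (a ^ (i : ℕ))⁻¹ a := ((Commute.refl a).pow_left _).inv_left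
    have h2 : Commute (z ^ (k : ℕ))⁻¹ a := (D.za.pow_left _).inv_left
    simpa [mul_assoc] using (h1.mul_left hua).mul_left h2
  have hj : j = 0 := by
    by_contra hj
    have h3 : ∀ n : Fin 3, n ≠ 0 → (r ^ (n : ℕ)) ^ (n : ℕ) = r := by
      intro n hn
      rw [← pow_mul, pow_mod_three (D.base.cube r (D.base.le1 hr))]
      obtain h | h : n = 1 ∨ n = 2 := by
        fin_cases n
        exacts [absurd rfl hn, Or.inl rfl, Or.inr rfl]
      all_goals (subst h; exact pow_one r)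
    have h := hrj.pow_left (j : ℕ)
    rw [h3 j hj] at h
    rw [D.base.br_eq_one.2 h.symm] at har
    exact D.z_ne har.symm
  exact ⟨i, k, v, hv, by rw [hj, Fin.val_zero, pow_zero, mul_one]⟩

/-- The involution `t1` moves the elements of `C(Z) ∩ C(a)` only along `⟨a⟩`. -/
theorem t1_shift {c : G} (hc : c ∈ centralizer (Z : Set G)) (hca : c * a = a * c) :
    t1 * c * t1⁻¹ * c⁻¹ ∈ zpowers a := by
  obtain ⟨l, hl, q, hq, hqa, n, rfl⟩ := D.cent_a_split hc hca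
  obtain ⟨i, k, v, hv, rfl⟩ := cent_a_Q D hq hqa
  have c1 : Commute t1 l := D.base.L_comm t1 D.base.t1_mem l hl
  have c2 : Commute t1 z := D.base.fix_Z D.t1_cent D.z_mem
  have c3 : Commute t1 v := (mem_centralizer_iff.1 (D.base.L1_cent D.base.t1_mem) v hv).symm
  have c4 : Commute t1 y := D.y_t1
  have cla : Commute l a := (mem_centralizer_iff.1 (D.base.L2_cent hl) a D.a_mem).symm
  set w := z ^ k * v * y ^ (n : ℕ) with hw
  have e1 : Commute t1 w := ((c2.pow_right k).mul_right c3).mul_right (c4.pow_right _)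
  have e : t1 * (l * (a ^ i * z ^ k * v) * y ^ (n : ℕ)) * t1⁻¹ * (l * (a ^ i * z ^ k * v) * y ^ (n : ℕ))⁻¹ =
      (a⁻¹) ^ i * (a ^ i)⁻¹ := by
    rw [show l * (a ^ i * z ^ k * v) * y ^ (n : ℕ) = a ^ i * l * w by
      rw [← (cla.pow_right i).eq, hw]; group]
    rw [show t1 * (a ^ i * l * w) * t1⁻¹ = (t1 * a * t1⁻¹) ^ i * (t1 * (l * w) * t1⁻¹) by rw [conj_pow]; group,
      (c1.mul_right e1).eq, mul_inv_cancel_right, D.t1_a]
    group
  rw [e]
  exact mul_mem (pow_mem (inv_mem (mem_zpowers a)) i) (inv_mem (pow_mem (mem_zpowers a) i))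

/-- An involution of `C(Z) ∩ C(a)` lies in `Q t2`. -/
theorem invol_shape {x : G} (hc : x ∈ centralizer (Z : Set G)) (hxa : x * a = a * x) (h2 : x * x = 1)
    (h1 : x ≠ 1) : ∃ q ∈ Q, x = q * t2 := by
  obtain ⟨l, hl, q, hq, -, n, e⟩ := D.cent_a_split hc hxa
  have hQL : x ∈ Q ⊔ (L1 ⊔ L2) := by
    have hlq : l * q ∈ Q ⊔ (L1 ⊔ L2) := mul_mem (mem_sup_right (mem_sup_right hl)) (mem_sup_left hq)
    rw [e]
    refine mul_mem hlq ?_
    have hy2 : y ^ (n : ℕ) * y ^ (n : ℕ) ∈ Q ⊔ (L1 ⊔ L2) := by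
      have hyn : y ^ (n : ℕ) ∈ centralizer (Z : Set G) := pow_mem D.y_cent _
      have hh := (mem_normalizer_iff.1 (D.base.norm_L hyn) (l * q)).1 hlq
      have : y ^ (n : ℕ) * y ^ (n : ℕ) = (y ^ (n : ℕ) * (l * q) * (y ^ (n : ℕ))⁻¹)⁻¹ * (l * q)⁻¹ := by
        rw [show y ^ (n : ℕ) * y ^ (n : ℕ) =
          (y ^ (n : ℕ) * (l * q) * (y ^ (n : ℕ))⁻¹)⁻¹ * (l * q)⁻¹ * (l * q * y ^ (n : ℕ) * (l * q * y ^ (n : ℕ))) by
          group, ← e, h2, mul_one]
      rw [this]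
      exact mul_mem (inv_mem hh) (inv_mem hlq)
    have h3 : (y ^ (n : ℕ)) ^ 3 = 1 := by rw [← pow_mul, mul_comm, pow_mul, D.y_cube, one_pow]
    rw [show y ^ (n : ℕ) = (y ^ (n : ℕ) * y ^ (n : ℕ)) * (y ^ (n : ℕ) * y ^ (n : ℕ)) by
      rw [← mul_assoc, ← pow_two, ← pow_succ, h3, one_mul]]
    exact mul_mem hy2 hy2
  obtain ⟨q', hq', l', hl', m, hm, e'⟩ := D.base.QL_split hQL
  have hlC := D.base.L1_le hl'
  have hl1 : l' = 1 := by
    refine D.base.free D.a_mem D.a_not hl' ?_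
    have hma : m * a = a * m := (mem_centralizer_iff.1 (D.base.L2_cent hm) a D.a_mem).symm
    have hla : l' * a * l'⁻¹ ∈ Q := D.base.conj_memQ hlC D.a_Q
    have hb := D.base.br_mem hq' hla
    have e1 : a = ⁅q', l' * a * l'⁻¹⁆ * (l' * a * l'⁻¹) := by
      calc a = x * a * x⁻¹ := by rw [hxa, mul_inv_cancel_right]
        _ = q' * l' * (m * a) * m⁻¹ * l'⁻¹ * q'⁻¹ := by rw [e']; group
        _ = _ := by rw [hma, commutatorElement_def]; group
    have e2 : a⁻¹ * (l' * a * l'⁻¹) = ⁅q', l' * a * l'⁻¹⁆⁻¹ := by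
      rw [← (D.base.Z_comm hla hb).eq] at e1
      set L := l' * a * l'⁻¹ with hL
      set X := ⁅q', L⁆
      rw [e1]
      group
    rw [e2]
    exact inv_mem hb
  rw [hl1, one_mul] at e'
  have hmC := D.base.L2_le hm
  have hmQ : m * m ∈ Q := by
    have hh : q' * (m * q' * m⁻¹) * (m * m) = 1 := by
      calc q' * (m * q' * m⁻¹) * (m * m) = (q' * m) * (q' * m) := by group
        _ = 1 := by rw [← e', h2]
    rw [eq_inv_of_mul_eq_one_right hh]
    exact inv_mem (mul_mem hq' (D.base.conj_memQ hmC hq'))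
  have h3 : (m * m) ^ 3 = 1 := D.base.cube _ hmQ
  have h8 : m ^ 8 = 1 := by
    obtain ⟨eq⟩ := D.base.L2_quat
    have : (⟨m, hm⟩ : ↥L2) ^ 8 = 1 := eq.injective (by
      rw [map_pow, map_one]
      exact (show ∀ v : QuaternionGroup 2, v ^ 8 = 1 by decide) _)
    exact congrArg Subtype.val this
  have hm2 : m * m = 1 := by
    calc m * m = (m * m) ^ 3 * (m * m) := by rw [h3, one_mul]
      _ = m ^ 8 := by simp [pow_succ, mul_assoc]
      _ = 1 := h8
  rcases D.base.pow_four D.base.L2_quat hm D.base.t2_mem D.base.t2_two hm2 with rfl | rfl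
  · rw [mul_one] at e'
    exact absurd (eq_one_of_two_three h2 (e' ▸ D.base.cube q' hq')) h1
  · exact ⟨q', hq', e'⟩

/-- No four group of `C(a)` centralizes `z`. -/
theorem no_four {x x' : G} (hx : x * z = z * x) (hx' : x' * z = z * x') (hxa : x * a = a * x)
    (hxa' : x' * a = a * x') (h2 : x * x = 1) (h2' : x' * x' = 1) (h1 : x ≠ 1) (h1' : x' ≠ 1)
    (hc : x * x' = x' * x) : x = x' := by
  obtain ⟨q, hq, e⟩ := invol_shape D (D.mem_centZ.2 hx) hxa h2 h1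
  obtain ⟨q', hq', e'⟩ := invol_shape D (D.mem_centZ.2 hx') hxa' h2' h1'
  have hi : x'⁻¹ = x' := inv_eq_of_mul_eq_one_left h2'
  have hw : x * x' ∈ Q := by
    rw [← hi, e, e', show q * t2 * (q' * t2)⁻¹ = q * q'⁻¹ by group]
    exact mul_mem hq (inv_mem hq')
  have hsq : x * x' * (x * x') = 1 := by
    calc x * x' * (x * x') = x * (x' * x) * x' := by group
      _ = x * x * (x' * x') := by rw [← hc]; group
      _ = 1 := by rw [h2, h2', one_mul]
  rw [eq_inv_of_mul_eq_one_left (eq_one_of_two_three hsq (D.base.cube _ hw)), hi]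

/-- A conjugate of `b` by an element of `Q2` differs from it by any given power of `z`. -/
theorem b_shift (n : ℕ) : ∃ g : G, g * b * g⁻¹ = b * z ^ n := by
  obtain ⟨r, hr, hbr⟩ := D.base.exists_partner D.base.le2 (fun u hu v hv => (D.base.Q_comm v hv u hu).symm)
    (by rw [sup_comm]; exact D.base.Q_prod) D.b_mem D.b_not (inv_mem (pow_mem D.z_mem n))
  have h : ⁅r, b⁆ = z ^ n := by rw [← commutatorElement_inv, hbr, inv_inv]
  refine ⟨r, ?_⟩
  rw [(D.base.Z_comm D.b_Q (pow_mem D.z_mem n)).eq, ← h, commutatorElement_def, inv_mul_cancel_right]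

omit [Finite G] D in
theorem short_pow : ∀ j : Fin 3, P (0, j, j + j) = P (0, 1, 2) ^ j.val := by decide +kernel

omit [Finite G] D in
theorem exists_frame_norm : ∀ r ∈ flips ++ perms, ∀ p ∈ ([(1, 0, 0), (0, 1, 0), (0, 0, 1)] : List U),
    ∃ v : U, r * P p * r⁻¹ = P v := by decide +kernel

omit [Finite G] D in
theorem frame_norm (r : S) (hr : r ∈ flips ++ perms) (u : U) : ∃ v, r * P u * r⁻¹ = P v := by
  have hle : E3 ≤ E3.comap (MulAut.conj r).toMonoidHom := by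
    have h1 : ∀ k : Fin 3, px k ∈ E3.comap (MulAut.conj r).toMonoidHom := by
      intro k
      obtain ⟨e0, e1, e2, -, -⟩ := px_eq
      fin_cases k
      · obtain ⟨v, hv⟩ := exists_frame_norm r hr (1, 0, 0) (by simp)
        exact ⟨v, by change P v = r * px 0 * r⁻¹; rw [e0]; exact hv.symm⟩
      · obtain ⟨v, hv⟩ := exists_frame_norm r hr (0, 1, 0) (by simp)
        exact ⟨v, by change P v = r * px 1 * r⁻¹; rw [e1]; exact hv.symm⟩
      · obtain ⟨v, hv⟩ := exists_frame_norm r hr (0, 0, 1) (by simp)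
        exact ⟨v, by change P v = r * px 2 * r⁻¹; rw [e2]; exact hv.symm⟩
    rintro _ ⟨w, rfl⟩
    exact mul_mem (mul_mem (pow_mem (h1 0) _) (pow_mem (h1 1) _)) (pow_mem (h1 2) _)
  obtain ⟨v, hv⟩ := hle ⟨u, rfl⟩
  exact ⟨v, hv.symm⟩

/-- A complement in coordinates in which `z` is `z₀` and `E` is spanned by `a` and the frame. -/
theorem exists_frame (hB : Big a) : ∃ f : S →* G, Sec a f ∧ f.range = centralizer ({a, t1} : Set G) ∧
    f z0 = z ∧ ∀ x ∈ E, x * t1 = t1 * x → ∃ u, f (P u) = x := by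
  classical
  obtain ⟨f0, F0⟩ := exists_sec D.a3 hB
  set K := E.comap f0 with hK
  have hEa : ∀ x ∈ E, Commute x a := fun x hx => D.E_comm x hx a D.a_E
  let e : Fin 3 × ↥K → ↥E := fun p => ⟨a ^ (p.1 : ℕ) * f0 p.2, mul_mem (pow_mem D.a_E _) p.2.2⟩
  have he : Function.Bijective e := by
    refine ⟨fun p p' h => ?_, fun x => ?_⟩
    · obtain ⟨h1, h2⟩ := F0.unique (congrArg Subtype.val h)
      exact Prod.ext (pow_inj_three D.a3 D.a_ne h2) (Subtype.ext h1)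
    · obtain ⟨k, s, hs⟩ := F0.split x (hEa x x.2)
      have hsE : s ∈ K := by
        show f0 s ∈ E
        rw [show f0 s = (a ^ k)⁻¹ * x by rw [hs, inv_mul_cancel_left]]
        exact mul_mem (inv_mem (pow_mem D.a_E k)) x.2
      exact ⟨(⟨k % 3, Nat.mod_lt _ (by norm_num)⟩, ⟨s, hsE⟩), Subtype.ext (by
        show a ^ (k % 3) * f0 s = x
        rw [← pow_mod_three D.a3, hs])⟩
  have hcard : Nat.card ↥K = 27 := by
    have h := Nat.card_eq_of_bijective e he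
    rw [Nat.card_prod, Nat.card_fin, D.E_card] at h
    omega
  obtain ⟨g, hg⟩ := exists_frame_conj K hcard fun u hu v hv => F0.inj (by
    rw [map_mul, map_mul]; exact D.E_comm _ hu _ hv)
  set f1 := f0.comp (MulAut.conj g).toMonoidHom with hf1
  have F1 : Sec a f1 := F0.conj g
  have hfr : ∀ x ∈ E, ∃ k : ℕ, ∃ u, x = a ^ k * f1 (P u) := by
    intro x hx
    obtain ⟨⟨i, s⟩, hs⟩ := he.2 ⟨x, hx⟩
    obtain ⟨u, hu⟩ := hg s s.2
    refine ⟨i, u, ?_⟩
    have hs' : a ^ (i : ℕ) * f0 s = x := congrArg Subtype.val hs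
    rw [← hs']
    show a ^ (i : ℕ) * f0 s = a ^ (i : ℕ) * f0 (g * P u * g⁻¹)
    rw [← hu]
    congr 2
    group
  obtain ⟨k, u, hu⟩ := hfr z D.z_E
  have hfull : Full u := by
    by_contra hnf
    obtain ⟨s, -, s', -, s2, s2', s1, s1', sne, sc, su, su'⟩ := four_witness u hnf
    have hcz : ∀ w, w * P u = P u * w → f1 w * z = z * f1 w := fun w hw => by
      rw [hu]
      exact (((F1.comm w).pow_right k).mul_right ((show Commute w (P u) from hw).map f1)).eq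
    have hne : ∀ w, w ≠ 1 → f1 w ≠ 1 := fun w hw h => hw (F1.inj (h.trans (map_one f1).symm))
    refine sne (F1.inj (no_four D (hcz s su) (hcz s' su') (F1.comm s).eq (F1.comm s').eq ?_ ?_ (hne s s1)
      (hne s' s1') ?_))
    · rw [← map_mul, s2, map_one]
    · rw [← map_mul, s2', map_one]
    · rw [← map_mul, ← map_mul, sc]
  obtain ⟨r, hr, hru⟩ := full_conj u hfull
  set f := f1.comp (MulAut.conj r⁻¹).toMonoidHom with hf
  have F : Sec a f := F1.conj r⁻¹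
  have hfv : ∀ w, f1 w = f (r * w * r⁻¹) := fun w => by
    show f1 w = f1 (r⁻¹ * (r * w * r⁻¹) * r⁻¹⁻¹)
    congr 1
    group
  have hfr' : ∀ x ∈ E, ∃ k : ℕ, ∃ w, x = a ^ k * f (P w) := fun x hx => by
    obtain ⟨j, w, hw⟩ := hfr x hx
    obtain ⟨v, hv⟩ := frame_norm r (List.mem_append_left _ hr) w
    exact ⟨j, v, by rw [hw, hfv, hv]⟩
  have hz : z = a ^ k * f z0 := by rw [hu, hfv, hru]
  obtain ⟨θ, hθ2, hθ⟩ := F.exists_theta D.a3 D.t1_sq D.t1_a
  have hθ1 : ∀ s, θ s = s := auto_trivial θ hθ2 fun c hc => by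
    have hcz : f c * z = z * f c := by
      rw [hz]
      exact (((F.comm c).pow_right k).mul_right (hc.map f)).eq
    have h := t1_shift D (D.mem_centZ.2 hcz) (F.comm c).eq
    rw [← hθ, ← map_inv, ← map_mul] at h
    exact mul_inv_eq_one.1 (F.free _ h)
  have hfix : ∀ s, t1 * f s * t1⁻¹ = f s := fun s => by rw [← hθ, hθ1]
  have hrange := F.range_eq D.a3 D.t1_a hfix
  have hexact : ∀ x, x * a = a * x → x * t1 = t1 * x → ∀ j : ℕ, ∀ s, x = a ^ j * f s → f s = x := by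
    intro x hxa hxt j s hxs
    have hx : x ∈ f.range := hrange ▸ mem_centralizer_iff.2 fun w hw => by
      rcases hw with rfl | rfl
      exacts [hxa.symm, hxt.symm]
    obtain ⟨s', rfl⟩ := hx
    rw [(F.unique (k := 0) (k' := j) (s := s') (s' := s) (by rw [pow_zero, one_mul]; exact hxs)).1]
  refine ⟨f, F, hrange, hexact z D.za.eq (D.base.fix_Z D.t1_cent D.z_mem).symm k z0 hz, fun x hx hxt => ?_⟩
  obtain ⟨j, w, hw⟩ := hfr' x hx
  exact ⟨w, hexact x (hEa x hx).eq hxt j _ hw⟩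

/-- The coordinates, up to the choice of `y`. -/
theorem six_of_big (hB : Big a) : ∃ y' : G, (y' = y ∨ y' = y⁻¹ * z) ∧
    ∃ φ : S →* G, Six a t1 z y' b φ ∧ φ (P (1, 0, 0)) = y' ∧ φ (P (0, 1, 1)) = y'⁻¹ * z ∧
      φ (P (0, 1, 2)) = b := by
  obtain ⟨f, F, hrange, hfz, hfr⟩ := exists_frame D hB
  obtain ⟨e0, -, -, ez, eb⟩ := px_eq
  have hconj : ∀ w : U, Full w → ∃ g : G, g * z * g⁻¹ = f (P w) := fun w hw => by
    obtain ⟨r, -, hr⟩ := full_conj w hw
    refine ⟨f r⁻¹, ?_⟩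
    rw [← hfz, ← map_inv, ← map_mul, ← map_mul, ← hr]
    congr 1
    group
  have hb_not : ∀ (g : G) (n : ℕ), g * z * g⁻¹ ≠ b * z ^ n := fun g n h => by
    obtain ⟨r, hr⟩ := b_shift D n
    refine D.symm.not_pt (r⁻¹ * g) ?_
    rw [show r⁻¹ * g * z * (r⁻¹ * g)⁻¹ = r⁻¹ * (g * z * g⁻¹) * r by group, h, ← hr]
    group
  obtain ⟨g0, g1, g2, -, -⟩ := D.swap
  have hy_not : ∀ g : G, g * z * g⁻¹ ≠ y := fun g h => D.not_pt (g0⁻¹ * g) (by
    rw [show g0⁻¹ * g * z * (g0⁻¹ * g)⁻¹ = g0⁻¹ * (g * z * g⁻¹) * g0 by group, h, ← g1]; group)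
  have hy'_not : ∀ g : G, g * z * g⁻¹ ≠ y⁻¹ * z := fun g h => D.symm.not_pt (g0⁻¹ * g) (by
    rw [show g0⁻¹ * g * z * (g0⁻¹ * g)⁻¹ = g0⁻¹ * (g * z * g⁻¹) * g0 by group, h, ← g2]; group)
  obtain ⟨u, hu⟩ := hfr b D.b_E D.t1_b.symm
  have hu0 : u ≠ 0 := fun h => D.b_ne (by rw [← hu, h, P_zero, map_one])
  have hunot : ∀ n : Fin 3, ¬ Full (u + (n, n, n)) := fun n hn => by
    obtain ⟨g, hg⟩ := hconj _ hn
    refine hb_not g n (hg.trans ?_)
    rw [← P_add, map_mul, hu, diag_z0, map_pow, hfz]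
  obtain ⟨r, hr, hru, hrz⟩ := short_conj u hu0
    (fun h => hunot 0 (by rwa [show ((0, 0, 0) : U) = 0 from rfl, add_zero])) (hunot 1) (hunot 2)
  set φ := f.comp (MulAut.conj r⁻¹).toMonoidHom with hφ
  have FF : Sec a φ := F.conj r⁻¹
  have hfv : ∀ w, f w = φ (r * w * r⁻¹) := fun w => by
    show f w = f (r⁻¹ * (r * w * r⁻¹) * r⁻¹⁻¹)
    congr 1
    group
  have hφz : φ z0 = z := by
    rw [← hfz, hfv z0, hrz, mul_inv_cancel_right]
  have hφb : φ (P (0, 1, 2)) = b := by rw [← hru, ← hfv, hu]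
  have hφr : φ.range = centralizer ({a, t1} : Set G) := by
    rw [hφ, MonoidHom.range_comp, MonoidHom.range_eq_top.2 (MulAut.conj r⁻¹).surjective, ← MonoidHom.range_eq_map,
      hrange]
  obtain ⟨w, hw⟩ := hfr y D.y_E D.y_t1.symm
  obtain ⟨v, hv⟩ := frame_norm r (List.mem_append_right _ hr) w
  have hφy : φ (P v) = y := by rw [← hv, ← hfv, hw]
  have hφy' : φ (P ((1, 1, 1) - v)) = y⁻¹ * z := by
    rw [sub_eq_neg_add, ← P_add, ← P_neg, map_mul, map_inv, hφy, hφz]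
  have hconj' : ∀ w : U, Full w → ∃ g : G, g * z * g⁻¹ = φ (P w) := fun w hw => by
    obtain ⟨r', -, hr'⟩ := full_conj w hw
    refine ⟨φ r'⁻¹, ?_⟩
    rw [← hφz, ← map_inv, ← map_mul, ← map_mul, ← hr']
    congr 1
    group
  have hv1 : ¬ Full v := fun h => by
    obtain ⟨g, hg⟩ := hconj' _ h
    exact hy_not g (hg.trans hφy)
  have hv2 : ¬ Full ((1, 1, 1) - v) := fun h => by
    obtain ⟨g, hg⟩ := hconj' _ h
    exact hy'_not g (hg.trans hφy')
  have hv3 : ∀ i j : Fin 3, v ≠ (i, i, i) + (0, j, j + j) := fun i j h => by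
    refine D.y_not ?_
    have e := short_pow j
    rw [← hφy, h, ← P_add, map_mul, diag_z0, map_pow, hφz, e, map_pow, hφb]
    exact mul_mem (pow_mem D.z_Q _) (pow_mem D.b_Q _)
  have ht2 : t2 ∈ φ.range := hφr ▸ mem_centralizer_iff.2 fun x hx => by
    rcases hx with h | h <;> rw [h]
    exacts [D.t2_a.symm, D.base.L_comm t1 D.base.t1_mem t2 D.base.t2_mem]
  obtain ⟨s, hs⟩ := ht2
  have hinv : s * P (0, 1, 2) * s⁻¹ = P (0, 2, 1) := by
    rw [show ((0, 2, 1) : U) = -(0, 1, 2) from rfl, ← P_neg]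
    refine FF.inj ?_
    rw [map_mul, map_mul, map_inv, map_inv, hs, hφb, D.t2_b]
  have hfixv : s * P v * s⁻¹ = P v := FF.inj (by
    rw [map_mul, map_mul, map_inv, hs, hφy, D.y_t2, mul_inv_cancel_right])
  have hfixz : s * z0 * s⁻¹ = z0 := FF.inj (by
    rw [map_mul, map_mul, map_inv, hs, hφz, D.base.fix_Z D.t2_cent D.z_mem, mul_inv_cancel_right])
  have hfix' : s * P ((1, 1, 1) - v) * s⁻¹ = P ((1, 1, 1) - v) := by
    rw [sub_eq_neg_add, ← P_add, ← P_neg, show s * ((P v)⁻¹ * z0) * s⁻¹ = (s * P v * s⁻¹)⁻¹ * (s * z0 * s⁻¹) by group,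
      hfixv, hfixz]
  have h010 : s * P (0, 1, 0) * s⁻¹ ≠ P (0, 1, 0) := fun h => fc_ne.1 (by
    rw [show ((0, 0, 2) : U) = (0, 1, 2) + -(0, 1, 0) from rfl, ← P_add, ← P_neg, ← fc_conj s,
      show s * (P (0, 1, 2) * (P (0, 1, 0))⁻¹) * s⁻¹ = s * P (0, 1, 2) * s⁻¹ * (s * P (0, 1, 0) * s⁻¹)⁻¹ by group,
      hinv, h, P_neg, P_add]
    rfl)
  have h001 : s * P (0, 0, 1) * s⁻¹ ≠ P (0, 0, 1) := fun h => fc_ne.2 (by
    rw [show ((0, 1, 0) : U) = (0, 1, 2) + (0, 0, 1) from rfl, ← P_add, ← fc_conj s,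
      show s * (P (0, 1, 2) * P (0, 0, 1)) * s⁻¹ = s * P (0, 1, 2) * s⁻¹ * (s * P (0, 0, 1) * s⁻¹) by group,
      hinv, h, P_add]
    rfl)
  have hsix : ∀ y', φ (P (1, 0, 0)) = y' → Six a t1 z y' b φ ∧ φ (P (1, 0, 0)) = y' ∧
      φ (P (0, 1, 1)) = y'⁻¹ * z ∧ φ (P (0, 1, 2)) = b := fun y' h => by
    refine ⟨⟨FF.inj, hφr, le_antisymm (fun x hx => ?_) (sup_le (zpowers_le.2 (mem_centralizer_singleton_iff.2 rfl))
      ?_), by rw [ez, hφz], by rw [e0, h], by rw [eb, hφb]⟩, h, ?_, hφb⟩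
    · obtain ⟨j, x', rfl⟩ := FF.split x (mem_centralizer_singleton_iff.1 hx)
      exact mul_mem (mem_sup_left (pow_mem (mem_zpowers a) j)) (mem_sup_right ⟨x', rfl⟩)
    · rintro _ ⟨x', rfl⟩
      exact mem_centralizer_singleton_iff.2 (FF.comm x').eq
    · rw [show ((0, 1, 1) : U) = -(1, 0, 0) + (1, 1, 1) from rfl, ← P_add, ← P_neg, map_mul, map_inv, h, hφz]
  rcases long_cases v hv1 hv2 hv3 with rfl | rfl | rfl | rfl | rfl | rfl
  · exact ⟨y, Or.inl rfl, φ, hsix y hφy⟩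
  · exact absurd hfixv h010
  · exact absurd hfixv h001
  · exact ⟨y⁻¹ * z, Or.inr rfl, φ, hsix _ hφy'⟩
  · exact absurd hfix' h010
  · exact absurd hfix' h001

end Cfsg.Agent.FFourLocal.Lift
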